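import Cfsg.Agent.TransCent22.Triple
import Cfsg.Agent.TT95.Uni22.Fi22

/-!
The group is the presented Fischer group Fi22.
-/

set_option autoImplicit false
set_option linter.unusedSectionVars false

namespace Cfsg.Agent.TransCent22

open Cfsg.Agent.TT95

variable {G : Type*} [Group G] [Finite G] {d : G} (hB : Base d)

include hB

theorem comp_eq : comp d = conjugatesOf d :=
  Set.Subset.antisymm (fun _ hx => comp_sub hx) fun _ hx =>
    comp_of_mem_stab hB hx (by rw [stab_eq_top hB]; exact Subgroup.mem_top _)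

theorem exists_iso : ∃ f : Cfsg.Spor.Fi22 ≃* G, ∀ x, f (PresentedGroup.of x) ∈ conjugatesOf d := by
  haveI := hB.gen_inst
  obtain ⟨f, hf⟩ := exists_fi22 hB.cfg hB.core (a := ⟨d, comp_le_stab (comp_self d)⟩) (comp_self d)
  exact ⟨f.trans ((MulEquiv.subgroupCongr (stab_eq_top hB)).trans Subgroup.topEquiv), fun x => comp_sub (hf x)⟩

theorem isoFi22 : Cfsg.Spor.IsoFi22 G := by
  obtain ⟨f, -⟩ := exists_iso hB
  exact ⟨f.symm⟩

end Cfsg.Agent.TransCent22
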