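import Cfsg.Agent.TransCent22.Main
import Cfsg.Agent.TransCent22.Refl
import Cfsg.Agent.Fi23Cent.Transport

/-!
The class is a class of 3-transpositions and the group is of type M(22).
-/

set_option autoImplicit false
set_option linter.unusedSectionVars false

namespace Cfsg.Agent.TransCent22

open Cfsg.Agent.TT95

variable {G : Type*} [Group G] [Finite G] {d : G} (hB : Base d)

include hB

theorem three_class : Cfsg.IsThreeTranspositionClass (conjugatesOf d) := by
  have hD := comp_eq hB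
  refine ⟨⟨fun x hx => ?_, fun x hx y hy => ?_⟩, ⟨d, IsConj.refl d, rfl⟩, ?_⟩
  · exact orderOf_eq_prime (by rw [pow_two]; exact hB.sq hx) (hB.ne_one hx)
  · have hx' : x ∈ comp d := hD.symm ▸ hx
    have hy' : y ∈ comp d := hD.symm ▸ hy
    exact order_of_path hB.locSys hx hy ((TT95.Path.symm hx').trans' hy')
  · rw [← hD, eq_top_iff, ← stab_eq_top hB]
    intro g hg
    have h1 : (⟨g, hg⟩ : stab d) ∈ Subgroup.closure (compIn d) := hB.gen_top.symm ▸ Subgroup.mem_top _
    have h2 : g ∈ (Subgroup.closure (compIn d)).map (stab d).subtype := ⟨_, h1, rfl⟩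
    rw [MonoidHom.map_closure] at h2
    exact Subgroup.closure_mono (by rintro _ ⟨y, hy, rfl⟩; exact hy) h2

theorem type_m22 : Cfsg.IsThreeTranspositionClass (conjugatesOf d) ∧ Cfsg.IsOfTypeM22 G (conjugatesOf d) := by
  refine ⟨three_class hB, ?_⟩
  haveI := hB.gen_inst
  have hC := hB.cfg
  set dd : stab d := ⟨d, comp_le_stab (comp_self d)⟩
  obtain ⟨a, ha, c, hc, hac, hU, -⟩ := hB.core.2
  obtain ⟨c', δ, hstd⟩ := Uni22.exists_std hC ha
  have htype : Cfsg.IsOfTypeM22 (stab d) (compIn d) :=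
    ⟨hC.center, a, ha, c', hstd.memd.1, hstd.memd.2, hU, 1, one_ne_zero, refl_of_std hC hstd⟩
  set φ : stab d ≃* G := (MulEquiv.subgroupCongr (stab_eq_top hB)).trans Subgroup.topEquiv with hφ
  have himg : φ '' compIn d = conjugatesOf d := by
    rw [← comp_eq hB]
    ext x
    exact ⟨fun ⟨y, hy, e⟩ => e ▸ hy, fun hx => ⟨⟨x, comp_le_stab hx⟩, hx, rfl⟩⟩
  exact himg ▸ Fi23Cent.type22_map φ htype

end Cfsg.Agent.TransCent22
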