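import Cfsg.Agent.TT95.U6Model

/-!
Finite facts on the neighbours of one point in the point model.
-/

set_option autoImplicit false

namespace Cfsg.Agent.TransCent22

open Cfsg.Agent.TT95.U6

/-- Two moves fixing `e1` and `e2` take any point off `e2` to a different orthogonal one. -/
theorem split_check :
    allP (fun w => !orth w e1 || orth w e2 ||
      pts.any (fun x => orth x e1 && orth x e2 && pts.any (fun y => orth y e1 && orth y e2 &&
        orth (tv y (tv x w)) w && !Nat.beq (tv y (tv x w)) w))) pts = true := by
  decide +kernel

/-- A point off `e1` is known up to one exchange from the points orthogonal to `e1`. -/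
theorem twin_check :
    allP (fun q => orth q e1 || Nat.beq q f1 || Nat.beq q (tv e1 f1) ||
      pts.any (fun z => orth z e1 && (xor (orth z q) (orth z f1)))) pts = true := by
  decide +kernel

theorem basic_check :
    orth e2 e1 = true ∧ orth e2 f1 = true ∧ isPt (tv e1 f1) = true := by
  decide +kernel

end Cfsg.Agent.TransCent22
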