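import Cfsg.Agent.TT95.U6Model

/-!
Finite facts on the point model used for the distance bound in the commuting graph.
-/

set_option autoImplicit false

namespace Cfsg.Agent.TransCent22

open Cfsg.Agent.TT95.U6

/-- Points orthogonal to the two points of the standard non-orthogonal pair. -/
def inR (x : ℕ) : Bool := orth x e1 && orth x f1

/-- The point left after removing the first coordinate. -/
def wof (y : ℕ) : ℕ := nrm (Nat.mul 4 (Nat.div y 4))

/-- Four points orthogonal to the standard pair. -/
def four : List ℕ := [272, 292, 3332, 20]

/-- The points above a point. -/
def lifts (w : ℕ) : List ℕ := [nrm (Nat.xor 1 w), nrm (Nat.xor 2 w), nrm (Nat.xor 3 w)]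

/-- Two different points orthogonal to the pair are told apart by a point orthogonal to `f1`. -/
theorem sep_check :
    allP (fun p => !inR p || allP (fun p' => !inR p' || Nat.beq p p' ||
      pts.any (fun z => orth z f1 && orth z p && !orth z p')) pts) pts = true := by
  decide +kernel

theorem wof_check :
    allP (fun y => !orth y e1 || Nat.beq y e1 || (isPt (wof y) && inR (wof y) &&
      allP (fun z => !orth z e1 || (orth z y == orth z (wof y))) pts)) pts = true := by
  decide +kernel

theorem over_check :
    allP (fun y => !orth y e1 || orth y f1 || Nat.beq y e1 ||
      four.all (fun w => !Nat.beq (wof y) w || (lifts w).any (Nat.beq y))) pts = true := by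
  decide +kernel

theorem four_check :
    allP (fun w => isPt w && inR w) four = true ∧
    ((lifts 272).all fun a => (lifts 292).all fun b => (lifts 3332).all fun c => (lifts 20).all fun e =>
      let L := [a, b, c, e]
      L.any fun u => L.any fun v => !orth u v && orth (tv u v) f1) = true := by
  decide +kernel

theorem tv_symm_check :
    allP (fun p => orth e1 p || Nat.beq (tv e1 p) (tv p e1)) pts = true := by
  decide +kernel

theorem inR_tv_check :
    allP (fun p => !inR p || allP (fun q => !inR q || inR (tv p q)) pts) pts = true := by
  decide +kernel

end Cfsg.Agent.TransCent22
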