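import Cfsg.Agent.TransCent22.Checks
import Cfsg.Agent.TT95.Types
import Cfsg.Agent.TT95.Graph

/-!
Point models at all members alone make the products inside a component of the commuting graph of order
at most three.
-/

set_option autoImplicit false
set_option linter.unusedSectionVars false

namespace Cfsg.Agent.TransCent22

open Cfsg.Agent.TT95 Cfsg.Agent.TT95.U6

/-- An invariant set with a point model at every member. -/
structure LocSys {G : Type*} [Group G] (D : Set G) : Prop where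
  inv : ∀ g : G, ∀ x ∈ D, g * x * g⁻¹ ∈ D
  sq : ∀ x ∈ D, x * x = 1
  loc : ∀ a ∈ D, ∃ γ, IsLocal D a γ

variable {G : Type*} [Group G] {D : Set G} (hS : LocSys D)

include hS

theorem nb_iff (g a x : G) : g * x * g⁻¹ ∈ nb D (g * a * g⁻¹) ↔ x ∈ nb D a := by
  refine ⟨fun ⟨h1, h2, h3⟩ => ⟨?_, fun e => h2 (by rw [e]), (Commute.conj_iff g).1 h3⟩,
    fun ⟨h1, h2, h3⟩ => ⟨hS.inv g _ h1, fun e => h2 (by simpa using e), (Commute.conj_iff g).2 h3⟩⟩
  have := hS.inv g⁻¹ _ h1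
  rwa [show g⁻¹ * (g * x * g⁻¹) * g⁻¹⁻¹ = x by group] at this

theorem local_conj {a : G} {γ : ℕ → G} (hγ : IsLocal D a γ) (g : G) (ha : g * a * g⁻¹ = a) :
    IsLocal D a (fun p => g * γ p * g⁻¹) where
  mem p hp := by rw [← ha]; exact (nb_iff hS g a _).2 (hγ.mem p hp)
  surj x hx := by
    rw [show x = g * (g⁻¹ * x * g) * g⁻¹ by group, ← ha, nb_iff hS] at hx
    obtain ⟨p, hp, h⟩ := hγ.surj _ hx
    exact ⟨p, hp, by rw [h]; group⟩
  inj p q hp hq h := hγ.inj p q hp hq (mul_left_cancel (mul_right_cancel h))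
  comm p q hp hq := by rw [Commute.conj_iff g]; exact hγ.comm p q hp hq
  isPt_tv := hγ.isPt_tv
  conj e p he hp := by rw [← hγ.conj e p he hp]; group
  line y hy := by
    rw [show y = g * (g⁻¹ * y * g) * g⁻¹ by group, ← ha, nb_iff hS] at hy
    have := (Commute.conj_iff g).2 (hγ.line _ hy)
    rw [show g * (g⁻¹ * y * g) * g⁻¹ = y by group] at this
    rwa [show g * (γ 1 * γ 4 * γ 5 * γ 9 * γ 13) * g⁻¹ = g * γ 1 * g⁻¹ * (g * γ 4 * g⁻¹) * (g * γ 5 * g⁻¹) *
      (g * γ 9 * g⁻¹) * (g * γ 13 * g⁻¹) by group] at this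

theorem local_move {a : G} {γ : ℕ → G} (hγ : IsLocal D a γ) {P : ℕ → Bool} {s x : ℕ} (hs : isPt s = true)
    (hr : Reach P s x) :
    ∃ g : G, IsLocal D a (fun p => g * γ p * g⁻¹) ∧ g * γ s * g⁻¹ = γ x ∧
      ∀ p, isPt p = true → (∀ e, isPt e = true → P e = true → orth e p = true) → g * γ p * g⁻¹ = γ p := by
  suffices h : isPt x = true ∧ ∃ g : G, g * a * g⁻¹ = a ∧ g * γ s * g⁻¹ = γ x ∧
      ∀ p, isPt p = true → (∀ e, isPt e = true → P e = true → orth e p = true) → g * γ p * g⁻¹ = γ p by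
    obtain ⟨-, g, hg, e, hf⟩ := h
    exact ⟨g, local_conj hS hγ g hg, e, hf⟩
  induction hr with
  | base => exact ⟨hs, 1, by simp, by simp, by simp⟩
  | @step e y he hP' _ ih =>
    obtain ⟨hy, g, hg, hgy, hgf⟩ := ih
    refine ⟨hγ.isPt_tv e y he hy, γ e * g, ?_, ?_, ?_⟩
    · have hc := (hγ.mem e he).2.2
      calc γ e * g * a * (γ e * g)⁻¹ = γ e * (g * a * g⁻¹) * (γ e)⁻¹ := by group
        _ = a := by rw [hg, ← hc.eq, mul_inv_cancel_right]
    · rw [← hγ.conj e y he hy, ← hgy]; group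
    · intro p hp hP
      calc γ e * g * γ p * (γ e * g)⁻¹ = γ e * (g * γ p * g⁻¹) * (γ e)⁻¹ := by group
        _ = γ p := by rw [hgf p hp hP, ((hγ.comm e p he hp).2 (hP e he hP')).eq, mul_inv_cancel_right]

theorem local_one {a b : G} (ha : a ∈ D) (hb : b ∈ nb D a) : ∃ γ, IsLocal D a γ ∧ γ e1 = b := by
  obtain ⟨γ, hγ⟩ := hS.loc a ha
  obtain ⟨p, hp, rfl⟩ := hγ.surj b hb
  obtain ⟨g, h, e, -⟩ := local_move hS hγ base_isPt.1 (orbit_points (mem_pts.2 hp))
  exact ⟨_, h, e⟩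

theorem local_nonperp {a b c : G} (ha : a ∈ D) (hb : b ∈ nb D a) (hc : c ∈ nb D a)
    (hbc : ¬ Commute b c) : ∃ γ, IsLocal D a γ ∧ γ e1 = b ∧ γ f1 = c := by
  obtain ⟨γ, hγ, rfl⟩ := local_one hS ha hb
  obtain ⟨p, hp, rfl⟩ := hγ.surj c hc
  have h1 : orth p e1 = false := Bool.eq_false_iff.2 fun h => hbc ((hγ.comm p e1 hp base_isPt.1).2 h).symm
  obtain ⟨g, h, e, hf⟩ := local_move hS hγ base_isPt.2.2.2.1 (orbit_nonperp (mem_pts.2 hp) h1)
  exact ⟨_, h, hf e1 base_isPt.1 (fun _ _ h => h), e⟩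

theorem step {d e f x : G} (hd : d ∈ D) (he : e ∈ D) (hf : f ∈ D) (hx : x ∈ D) (hde : Commute d e)
    (hef : Commute e f) (hfx : Commute f x) (hdf : ¬ Commute d f) (hex : ¬ Commute e x) :
    ∃ q, q ∈ nb D d ∧ Commute q x := by
  classical
  have ned : d ≠ e := fun h => hdf (h ▸ hef)
  have nef : f ≠ e := fun h => hdf (h ▸ hde)
  have nfx : x ≠ f := fun h => hex (h ▸ hef)
  obtain ⟨γ, hγ, g1, g2⟩ := local_nonperp hS he (b := d) ⟨hd, ned, hde.symm⟩ (c := f) ⟨hf, nef, hef⟩ hdf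
  obtain ⟨δ, hδ, d1, d2⟩ := local_nonperp hS hf (b := e) ⟨he, nef.symm, hef.symm⟩ (c := x) ⟨hx, nfx, hfx⟩ hex
  obtain ⟨b1, -, -, b4, -⟩ := base_isPt
  have hRspec : ∀ {p}, isPt p = true → inR p = true → Commute (γ p) d ∧ Commute (γ p) f ∧ γ p ∈ nb D e := by
    intro p hp hR
    simp only [inR, Bool.and_eq_true] at hR
    refine ⟨?_, ?_, hγ.mem p hp⟩
    · rw [← g1]; exact (hγ.comm p e1 hp b1).2 hR.1
    · rw [← g2]; exact (hγ.comm p f1 hp b4).2 hR.2
  have hnd : ∀ {p}, isPt p = true → inR p = true → γ p ≠ d ∧ γ p ≠ f := by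
    intro p hp hR
    obtain ⟨c1, c2, -⟩ := hRspec hp hR
    exact ⟨fun h => hdf (h ▸ c2), fun h => hdf (h ▸ c1).symm⟩
  by_contra hno
  push Not at hno
  -- the transfer to the model at `f`
  have hφ : ∀ p, isPt p = true → inR p = true → ∃ y, isPt y = true ∧ δ y = γ p ∧ orth y e1 = true ∧
      orth y f1 = false ∧ y ≠ e1 := by
    intro p hp hR
    obtain ⟨c1, c2, hm⟩ := hRspec hp hR
    obtain ⟨y, hy, hyp⟩ := hδ.surj (γ p) ⟨hm.1, (hnd hp hR).2, c2.symm⟩
    refine ⟨y, hy, hyp, ?_, Bool.eq_false_iff.2 fun h => ?_, fun h => hm.2.1 ?_⟩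
    · refine (hδ.comm y e1 hy b1).1 ?_
      rw [hyp, d1]; exact hm.2.2.symm
    · refine hno (γ p) ⟨hm.1, (hnd hp hR).1, c1.symm⟩ ?_
      rw [← hyp, ← d2]; exact (hδ.comm y f1 hy b4).2 h
    · rw [← hyp, h, d1]
  choose! φ hφp hφe hφ1 hφ2 hφ3 using hφ
  have hw : ∀ p, isPt p = true → inR p = true → isPt (wof (φ p)) = true ∧ inR (wof (φ p)) = true ∧
      ∀ z, isPt z = true → orth z e1 = true → (orth z (φ p) = orth z (wof (φ p))) := by
    intro p hp hR
    have h := allP_iff.1 wof_check (φ p) (mem_pts.2 (hφp p hp hR))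
    rw [hφ1 p hp hR, Bool.not_true, Bool.false_or, Bool.or_eq_true] at h
    have h' := h.resolve_left fun e => hφ3 p hp hR (Nat.eq_of_beq_eq_true e)
    simp only [Bool.and_eq_true] at h'
    refine ⟨h'.1.1, h'.1.2, fun z hz hze => ?_⟩
    have := allP_iff.1 h'.2 z (mem_pts.2 hz)
    rw [hze, Bool.not_true, Bool.false_or, beq_iff_eq] at this
    exact this
  let ψ : {p // p ∈ pts.filter inR} → {p // p ∈ pts.filter inR} := fun p =>
    ⟨wof (φ p.1), List.mem_filter.2 (by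
      have hp := List.mem_filter.1 p.2
      exact ⟨mem_pts.2 (hw p.1 (mem_pts.1 hp.1) hp.2).1, (hw p.1 (mem_pts.1 hp.1) hp.2).2.1⟩)⟩
  have hψ : Function.Injective ψ := by
    rintro ⟨p, hp'⟩ ⟨p', hp''⟩ h
    have h' : wof (φ p) = wof (φ p') := congrArg Subtype.val h
    obtain ⟨hp, hR⟩ := List.mem_filter.1 hp'
    obtain ⟨hq, hR'⟩ := List.mem_filter.1 hp''
    refine Subtype.ext ?_
    by_contra hne
    have hc := allP_iff.1 (sep_check) p hp
    rw [hR, Bool.not_true, Bool.false_or] at hc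
    have hc := allP_iff.1 hc p' hq
    rw [hR', Bool.not_true, Bool.false_or, Bool.or_eq_true] at hc
    have hc := hc.resolve_left fun e => hne (Nat.eq_of_beq_eq_true e)
    rw [List.any_eq_true] at hc
    obtain ⟨z, hz, hz'⟩ := hc
    simp only [Bool.and_eq_true, Bool.not_eq_true'] at hz'
    obtain ⟨⟨z1, z2⟩, z3⟩ := hz'
    replace hp := mem_pts.1 hp
    replace hq := mem_pts.1 hq
    replace hz := mem_pts.1 hz
    have hzm := hγ.mem z hz
    have hzf : Commute (γ z) f := by rw [← g2]; exact (hγ.comm z f1 hz b4).2 z1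
    have hzp : Commute (γ z) (γ p) := (hγ.comm z p hz hp).2 z2
    have hzne : γ z ≠ f := fun h => by
      have e0 : z = f1 := hγ.inj z f1 hz b4 (h.trans g2.symm)
      simp only [inR, Bool.and_eq_true] at hR'
      have c : Commute (γ f1) (γ p') := ((hγ.comm p' f1 hq b4).2 hR'.2).symm
      rw [e0, (hγ.comm f1 p' b4 hq).1 c] at z3
      exact Bool.noConfusion z3
    obtain ⟨y, hy, hyz⟩ := hδ.surj (γ z) ⟨hzm.1, hzne, hzf.symm⟩
    have hye : orth y e1 = true := (hδ.comm y e1 hy b1).1 (by rw [hyz, d1]; exact hzm.2.2.symm)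
    have hyp : orth y (φ p) = true := (hδ.comm y _ hy (hφp p hp hR)).1 (by rw [hyz, hφe p hp hR]; exact hzp)
    rw [(hw p hp hR).2.2 y hy hye, h', ← (hw p' hq hR').2.2 y hy hye] at hyp
    have := (hδ.comm y _ hy (hφp p' hq hR')).2 hyp
    rw [hyz, hφe p' hq hR', hγ.comm z p' hz hq, z3] at this
    exact Bool.false_ne_true this
  have hsur := Finite.surjective_of_injective hψ
  obtain ⟨hfour, hcomb⟩ := four_check
  have hpre : ∀ w ∈ four, ∃ p, isPt p = true ∧ inR p = true ∧ φ p ∈ lifts w := by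
    intro w hw4
    have h := allP_iff.1 hfour w hw4
    rw [Bool.and_eq_true] at h
    obtain ⟨⟨p, hp'⟩, hp⟩ := hsur ⟨w, List.mem_filter.2 ⟨mem_pts.2 h.1, h.2⟩⟩
    have e : wof (φ p) = w := congrArg Subtype.val hp
    obtain ⟨hp1, hR⟩ := List.mem_filter.1 hp'
    replace hp1 := mem_pts.1 hp1
    refine ⟨p, hp1, hR, ?_⟩
    have h := allP_iff.1 over_check (φ p) (mem_pts.2 (hφp p hp1 hR))
    rw [hφ1 p hp1 hR, hφ2 p hp1 hR] at h
    simp only [Bool.not_true, Bool.false_or, Bool.or_eq_true] at h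
    have h := h.resolve_left fun e => hφ3 p hp1 hR (Nat.eq_of_beq_eq_true e)
    rw [List.all_eq_true] at h
    have h := h w hw4
    rw [e, Nat.beq_refl, Bool.not_true, Bool.false_or, List.any_eq_true] at h
    obtain ⟨y, hy, hy'⟩ := h
    rw [Nat.eq_of_beq_eq_true hy']
    exact hy
  obtain ⟨pa, a1, a2, a3⟩ := hpre 272 (by simp [four])
  obtain ⟨pb, b1', b2', b3'⟩ := hpre 292 (by simp [four])
  obtain ⟨pc, c1', c2', c3'⟩ := hpre 3332 (by simp [four])
  obtain ⟨pe, e1', e2', e3'⟩ := hpre 20 (by simp [four])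
  simp only [List.all_eq_true] at hcomb
  have hh := hcomb _ a3 _ b3' _ c3' _ e3'
  simp only [List.any_eq_true] at hh
  obtain ⟨u, hu, v, hv, huv⟩ := hh
  have hmem : ∀ u ∈ [φ pa, φ pb, φ pc, φ pe], ∃ p, isPt p = true ∧ inR p = true ∧ φ p = u := by
    intro u hu
    simp only [List.mem_cons, List.not_mem_nil, or_false] at hu
    rcases hu with rfl | rfl | rfl | rfl
    exacts [⟨pa, a1, a2, rfl⟩, ⟨pb, b1', b2', rfl⟩, ⟨pc, c1', c2', rfl⟩, ⟨pe, e1', e2', rfl⟩]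
  obtain ⟨p, hp, hR, rfl⟩ := hmem u hu
  obtain ⟨p', hp', hR', rfl⟩ := hmem v hv
  rw [Bool.and_eq_true] at huv
  have hq := hγ.isPt_tv p p' hp hp'
  have hRq : inR (tv p p') = true := by
    have h := allP_iff.1 inR_tv_check p (mem_pts.2 hp)
    rw [hR, Bool.not_true, Bool.false_or] at h
    have h := allP_iff.1 h p' (mem_pts.2 hp')
    rwa [hR', Bool.not_true, Bool.false_or] at h
  obtain ⟨k1, -, k3⟩ := hRspec hq hRq
  refine hno _ ⟨k3.1, (hnd hq hRq).1, k1.symm⟩ ?_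
  have hy := hφp p hp hR
  have hy' := hφp p' hp' hR'
  rw [← hγ.conj p p' hp hp', ← hφe p hp hR, ← hφe p' hp' hR', hδ.conj _ _ hy hy', ← d2]
  exact (hδ.comm _ f1 (hδ.isPt_tv _ _ hy hy') b4).2 huv.2

theorem common_of_path {a x : G} (ha : a ∈ D) (h : Path D a x) :
    Commute a x ∨ ∃ c ∈ nb D a, Commute c x := by
  induction h with
  | refl => exact Or.inl (Commute.refl _)
  | @tail y y' _ hyy ih =>
    obtain ⟨hy, hy', hc⟩ := hyy
    by_cases h0 : Commute a y'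
    · exact Or.inl h0
    right
    by_cases h1 : Commute a y
    · exact ⟨y, ⟨hy, fun e => h0 (e ▸ hc), h1⟩, hc⟩
    obtain ⟨c, hca, hcy⟩ := ih.resolve_left h1
    by_cases h2 : Commute c y'
    · exact ⟨c, hca, h2⟩
    exact step hS ha hca.1 hy hy' hca.2.2 hcy hc h1 h2

theorem braid_of_path {a x : G} (ha : a ∈ D) (hx : x ∈ D) (h : Path D a x) (hn : ¬ Commute a x) :
    a * x * a = x * a * x := by
  obtain ⟨c, hc, hcx⟩ := (common_of_path hS ha h).resolve_left hn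
  have hac : a ≠ c := hc.2.1.symm
  have hxc : x ≠ c := fun e => hn (e ▸ hc.2.2)
  obtain ⟨γ, hγ, rfl⟩ := local_one hS hc.1 (b := a) ⟨ha, hac, hc.2.2.symm⟩
  obtain ⟨p, hp, rfl⟩ := hγ.surj x ⟨hx, hxc, hcx⟩
  have hno : orth e1 p = false := Bool.eq_false_iff.2 fun h => hn ((hγ.comm e1 p base_isPt.1 hp).2 h)
  have h := allP_iff.1 tv_symm_check p (mem_pts.2 hp)
  rw [hno, Bool.false_or] at h
  have h1 := hγ.conj e1 p base_isPt.1 hp
  have h2 := hγ.conj p e1 hp base_isPt.1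
  rw [inv_eq_of_mul_eq_one_right (hS.sq _ (hγ.mem e1 base_isPt.1).1)] at h1
  rw [inv_eq_of_mul_eq_one_right (hS.sq _ (hγ.mem p hp).1)] at h2
  rw [h1, h2, Nat.eq_of_beq_eq_true h]

theorem order_of_path {a x : G} (ha : a ∈ D) (hx : x ∈ D) (h : Path D a x) :
    (a * x) ^ 2 = 1 ∨ (a * x) ^ 3 = 1 := by
  by_cases hc : Commute a x
  · left
    rw [hc.mul_pow, pow_two, pow_two, hS.sq a ha, hS.sq x hx, mul_one]
  · right
    rw [pow_succ, pow_two, show a * x * (a * x) * (a * x) = a * x * a * (x * a * x) by group,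
      braid_of_path hS ha hx h hc, show x * a * x * (x * a * x) = x * (a * ((x * x) * a)) * x by group,
      hS.sq x hx, one_mul, hS.sq a ha, mul_one, hS.sq x hx]

end Cfsg.Agent.TransCent22
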