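import Cfsg.Agent.TransCent22.Local
import Cfsg.Agent.TransCent22.Distance
import Cfsg.Agent.TT95.InvolClasses
import Cfsg.Agent.TT95.Hexad
import Cfsg.Agent.TT95.Conn22

/-!
The stabiliser of a component of the commuting graph is a group of type M(22).
-/

set_option autoImplicit false
set_option linter.unusedSectionVars false

namespace Cfsg.Agent.TransCent22

open Cfsg.Agent.TT95 Cfsg.Agent.TT95.U6

variable {G : Type*} [Group G]

/-- The component of `d` in the commuting graph on its conjugates. -/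
def comp (d : G) : Set G := {x | TT95.Path (conjugatesOf d) d x}

theorem conj_inv (d g : G) {x : G} (hx : x ∈ conjugatesOf d) : g * x * g⁻¹ ∈ conjugatesOf d :=
  IsConj.trans hx (isConj_iff.2 ⟨g, rfl⟩)

theorem comp_sub {d x : G} (hx : x ∈ comp d) : x ∈ conjugatesOf d := TT95.Path.mem (IsConj.refl d) hx

theorem comp_self (d : G) : d ∈ comp d := Relation.ReflTransGen.refl

theorem path_conj (d g : G) {x y : G} (h : TT95.Path (conjugatesOf d) x y) :
    TT95.Path (conjugatesOf d) (g * x * g⁻¹) (g * y * g⁻¹) := by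
  induction h with
  | refl => exact .refl
  | tail _ e ih =>
    exact Relation.ReflTransGen.tail ih ⟨conj_inv d g e.1, conj_inv d g e.2.1, (Commute.conj_iff g).2 e.2.2⟩

/-- The stabiliser of the component. -/
def stab (d : G) : Subgroup G where
  carrier := {g | g * d * g⁻¹ ∈ comp d}
  one_mem' := by
    show (1 : G) * d * 1⁻¹ ∈ comp d
    simp [comp_self]
  mul_mem' := by
    intro g h hg hh
    have := path_conj d g (show TT95.Path (conjugatesOf d) d (h * d * h⁻¹) from hh)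
    rw [show g * (h * d * h⁻¹) * g⁻¹ = g * h * d * (g * h)⁻¹ by group] at this
    exact Path.trans' hg this
  inv_mem' := by
    intro g hg
    have := path_conj d g⁻¹ (show TT95.Path (conjugatesOf d) d (g * d * g⁻¹) from hg)
    rw [show g⁻¹ * (g * d * g⁻¹) * g⁻¹⁻¹ = d by group] at this
    exact this.symm

theorem mem_stab {d g : G} : g ∈ stab d ↔ g * d * g⁻¹ ∈ comp d := Iff.rfl

/-- An element mapping one member of the component into it stabilises it. -/
theorem mem_stab_of {d g x : G} (hx : x ∈ comp d) (hgx : g * x * g⁻¹ ∈ comp d) : g ∈ stab d := by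
  have := path_conj d g (show TT95.Path (conjugatesOf d) d x from hx)
  exact Path.trans' hgx this.symm

theorem comp_conj {d g : G} (hg : g ∈ stab d) {x : G} (hx : x ∈ comp d) : g * x * g⁻¹ ∈ comp d :=
  Path.trans' hg (path_conj d g hx)

theorem comp_of_commute {d x y : G} (hx : x ∈ comp d) (hy : y ∈ conjugatesOf d) (h : Commute x y) :
    y ∈ comp d :=
  Path.trans' hx (Path.single' (comp_sub hx) hy h)

theorem centralizer_le_stab {d a : G} (ha : a ∈ comp d) : Subgroup.centralizer ({a} : Set G) ≤ stab d :=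
  fun g hg => mem_stab_of ha (by
    rw [Subgroup.mem_centralizer_singleton_iff.1 hg, mul_inv_cancel_right]; exact ha)

theorem comp_le_stab {d : G} {x : G} (hx : x ∈ comp d) : x ∈ stab d :=
  centralizer_le_stab hx (Subgroup.mem_centralizer_singleton_iff.2 rfl)

theorem exists_stab_conj {d x : G} (hx : x ∈ comp d) : ∃ g ∈ stab d, g * d * g⁻¹ = x := by
  obtain ⟨g, hg⟩ := isConj_iff.1 (show IsConj d x from comp_sub hx)
  exact ⟨g, mem_stab.2 (hg ▸ hx), hg⟩

/-- The component inside its stabiliser. -/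
def compIn (d : G) : Set (stab d) := {x | (x : G) ∈ comp d}

variable {d : G} (hB : Base d)

include hB

theorem Base.sq {x : G} (hx : x ∈ conjugatesOf d) : x * x = 1 := by
  obtain ⟨g, rfl⟩ := isConj_iff.1 (show IsConj d x from hx)
  rw [conj_mul, ← pow_two, ← hB.ord, pow_orderOf_eq_one, mul_one, mul_inv_cancel]

theorem Base.ne_one {x : G} (hx : x ∈ conjugatesOf d) : x ≠ 1 := by
  obtain ⟨g, rfl⟩ := isConj_iff.1 (show IsConj d x from hx)
  rw [Ne, conj_eq_one_iff]
  intro h
  have := hB.ord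
  rw [h, orderOf_one] at this
  omega

theorem Base.locSys : LocSys (conjugatesOf d) := by
  refine ⟨fun g x hx => conj_inv d g hx, fun x hx => hB.sq hx, fun a ha => ?_⟩
  obtain ⟨γ, hγ⟩ := hB.loc
  obtain ⟨g, rfl⟩ := isConj_iff.1 (show IsConj d a from ha)
  refine ⟨fun p => g * γ p * g⁻¹, ?_⟩
  have hnb : ∀ x, g * x * g⁻¹ ∈ nb (conjugatesOf d) (g * d * g⁻¹) ↔ x ∈ nb (conjugatesOf d) d := fun x => by
    refine ⟨fun ⟨h1, h2, h3⟩ => ⟨?_, fun e => h2 (by rw [e]), (Commute.conj_iff g).1 h3⟩,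
      fun ⟨h1, h2, h3⟩ => ⟨conj_inv d g h1, fun e => h2 (by simpa using e), (Commute.conj_iff g).2 h3⟩⟩
    have := conj_inv d g⁻¹ h1
    rwa [show g⁻¹ * (g * x * g⁻¹) * g⁻¹⁻¹ = x by group] at this
  refine ⟨fun p hp => (hnb _).2 (hγ.mem p hp), ?_, ?_, ?_, hγ.isPt_tv, ?_, ?_⟩
  · intro x hx
    rw [show x = g * (g⁻¹ * x * g) * g⁻¹ by group, hnb] at hx
    obtain ⟨p, hp, h⟩ := hγ.surj _ hx
    exact ⟨p, hp, by rw [h]; group⟩
  · exact fun p q hp hq h => hγ.inj p q hp hq (mul_left_cancel (mul_right_cancel h))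
  · intro p q hp hq; rw [Commute.conj_iff g]; exact hγ.comm p q hp hq
  · intro e p he hp; rw [← hγ.conj e p he hp]; group
  · intro y hy
    rw [show y = g * (g⁻¹ * y * g) * g⁻¹ by group, hnb] at hy
    have := (Commute.conj_iff g).2 (hγ.line _ hy)
    rw [show g * (g⁻¹ * y * g) * g⁻¹ = y by group] at this
    rwa [show g * (γ 1 * γ 4 * γ 5 * γ 9 * γ 13) * g⁻¹ = g * γ 1 * g⁻¹ * (g * γ 4 * g⁻¹) * (g * γ 5 * g⁻¹) *
      (g * γ 9 * g⁻¹) * (g * γ 13 * g⁻¹) by group] at this

theorem Base.self_mem_centralizer : d ∈ Subgroup.centralizer ({d} : Set G) :=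
  Subgroup.mem_centralizer_singleton_iff.2 rfl

theorem Base.map_closure_nb :
    (Subgroup.closure (nb (compIn d) ⟨d, comp_le_stab (comp_self d)⟩)).map (stab d).subtype =
      Subgroup.centralizer ({d} : Set G) := by
  rw [MonoidHom.map_closure, ← hB.gen]
  congr 1
  ext x
  constructor
  · rintro ⟨y, ⟨h1, h2, h3⟩, rfl⟩
    exact ⟨comp_sub h1, fun e => h2 (Subtype.ext e), congrArg Subtype.val h3.eq⟩
  · rintro ⟨h1, h2, h3⟩
    have hx : x ∈ comp d := comp_of_commute (comp_self d) h1 h3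
    exact ⟨⟨x, comp_le_stab hx⟩, ⟨hx, fun e => h2 (congrArg Subtype.val e), Subtype.ext h3.eq⟩, rfl⟩

theorem exists_far : ∃ c ∈ comp d, ¬ Commute d c := by
  have hS := hB.locSys
  obtain ⟨γ, hγ⟩ := hB.loc
  obtain ⟨b1, -, -, b4, -⟩ := base_isPt
  have hb := hγ.mem e1 b1
  obtain ⟨δ, hδ, hd1⟩ := local_one hS hb.1 (b := d) ⟨IsConj.refl d, hb.2.1.symm, hb.2.2.symm⟩
  have hc := hδ.mem f1 b4
  refine ⟨δ f1, comp_of_commute (comp_of_commute (comp_self d) hb.1 hb.2.2) hc.1 hc.2.2, fun h => ?_⟩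
  rw [← hd1] at h
  have := (hδ.comm e1 f1 b1 b4).1 h
  revert this
  decide +kernel

theorem local_trans {a : G} {γ : ℕ → G} (hγ : IsLocal (conjugatesOf d) a γ) {x y : G}
    (hx : x ∈ nb (conjugatesOf d) a) (hy : y ∈ nb (conjugatesOf d) a) :
    ∃ g ∈ Subgroup.closure (nb (conjugatesOf d) a), g * x * g⁻¹ = y := by
  have key : ∀ p, Reach (fun _ => true) e1 p → isPt p = true ∧
      ∃ g ∈ Subgroup.closure (nb (conjugatesOf d) a), g * γ e1 * g⁻¹ = γ p := by
    intro p hr
    induction hr with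
    | base => exact ⟨base_isPt.1, 1, one_mem _, by simp⟩
    | @step e y he _ _ ih =>
      obtain ⟨hy', g, hg, hgy⟩ := ih
      exact ⟨hγ.isPt_tv e y he hy', γ e * g, mul_mem (Subgroup.subset_closure (hγ.mem e he)) hg,
        by rw [← hγ.conj e y he hy', ← hgy]; group⟩
  obtain ⟨p, hp, rfl⟩ := hγ.surj x hx
  obtain ⟨q, hq, rfl⟩ := hγ.surj y hy
  obtain ⟨-, g, hg, e⟩ := key p (orbit_points (mem_pts.2 hp))
  obtain ⟨-, k, hk, e'⟩ := key q (orbit_points (mem_pts.2 hq))
  exact ⟨k * g⁻¹, mul_mem hk (inv_mem hg), by rw [← e, ← e']; group⟩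

theorem exists_common_nb {z : G} (hz : z ∈ nb (conjugatesOf d) d) :
    ∃ b ∈ nb (conjugatesOf d) d, b ∈ nb (conjugatesOf d) z := by
  obtain ⟨γ, hγ, rfl⟩ := local_one hB.locSys (IsConj.refl d) hz
  obtain ⟨b1, b2, -⟩ := base_isPt
  have hb := hγ.mem e2 b2
  exact ⟨γ e2, hb, hb.1, fun e => absurd (hγ.inj _ _ b2 b1 e) (by decide),
    (hγ.comm e1 e2 b1 b2).2 (by decide +kernel)⟩

theorem Base.gen_top : Subgroup.closure (compIn d) = ⊤ := by
  set K := (Subgroup.closure (compIn d)).map (stab d).subtype with hK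
  have hcomp : ∀ {x : G}, x ∈ comp d → x ∈ K := fun {x} hx =>
    ⟨⟨x, comp_le_stab hx⟩, Subgroup.subset_closure hx, rfl⟩
  have hnb : ∀ {a : G}, a ∈ comp d → Subgroup.closure (nb (conjugatesOf d) a) ≤ K := fun {a} ha =>
    (Subgroup.closure_le _).2 fun y hy => hcomp (comp_of_commute ha hy.1 hy.2.2)
  have hC : Subgroup.centralizer ({d} : Set G) ≤ K := hB.gen ▸ hnb (comp_self d)
  have htrans : ∀ x : G, TT95.Path (conjugatesOf d) d x → ∃ k ∈ K, k * d * k⁻¹ = x := by
    intro x hx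
    induction hx with
    | refl => exact ⟨1, one_mem _, by simp⟩
    | @tail y y' hy hyy ih =>
      obtain ⟨k, hk, hky⟩ := ih
      obtain ⟨hy1, hy2, hc⟩ := hyy
      have hn : k⁻¹ * y' * k ∈ conjugatesOf d := by simpa using conj_inv d k⁻¹ hy2
      have hcd : Commute d (k⁻¹ * y' * k) := by
        refine (Commute.conj_iff k).1 ?_
        rw [hky, show k * (k⁻¹ * y' * k) * k⁻¹ = y' by group]
        exact hc
      by_cases he : k⁻¹ * y' * k = d
      · refine ⟨k, hk, ?_⟩
        calc k * d * k⁻¹ = k * (k⁻¹ * y' * k) * k⁻¹ := by rw [he]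
          _ = y' := by group
      obtain ⟨b, hb, hb'⟩ := exists_common_nb hB ⟨hn, he, hcd⟩
      obtain ⟨δ, hδ⟩ := hB.locSys.loc b hb.1
      obtain ⟨j, hj, hjy⟩ := local_trans hB hδ (x := d) ⟨IsConj.refl d, hb.2.1.symm, hb.2.2.symm⟩
        (y := k⁻¹ * y' * k) ⟨hn, hb'.2.1.symm, hb'.2.2.symm⟩
      refine ⟨k * j, mul_mem hk (hnb (comp_of_commute (comp_self d) hb.1 hb.2.2) hj), ?_⟩
      rw [show k * j * d * (k * j)⁻¹ = k * (j * d * j⁻¹) * k⁻¹ by group, hjy]
      group
  rw [eq_top_iff]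
  rintro ⟨g, hg⟩ -
  obtain ⟨k, hk, hkg⟩ := htrans _ (mem_stab.1 hg)
  have : k⁻¹ * g ∈ Subgroup.centralizer ({d} : Set G) := Subgroup.mem_centralizer_singleton_iff.2 (by
    calc k⁻¹ * g * d = k⁻¹ * (g * d * g⁻¹) * g := by group
      _ = k⁻¹ * (k * d * k⁻¹) * g := by rw [hkg]
      _ = d * (k⁻¹ * g) := by group)
  have hgK : g ∈ K := by simpa using mul_mem hk (hC this)
  obtain ⟨y, hy, e⟩ := hgK
  rwa [Subtype.ext (show (y : G) = (⟨g, hg⟩ : stab d) from e)] at hy

theorem Base.ttSet : TTSet (compIn d) := by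
  refine ⟨⟨fun x hx => ?_, fun x hx y hy => ?_⟩, fun g x hx => comp_conj g.2 hx, ?_⟩
  · refine orderOf_eq_prime ?_ fun h => hB.ne_one (comp_sub hx) (congrArg Subtype.val h)
    rw [pow_two]; exact Subtype.ext (hB.sq (comp_sub hx))
  · rcases order_of_path hB.locSys (comp_sub hx) (comp_sub hy) (Path.trans' (TT95.Path.symm hx) hy) with h | h
    · left; exact Subtype.ext (by simpa using h)
    · right; exact Subtype.ext (by simpa using h)
  · rw [← Subgroup.centralizer_closure, hB.gen_top, Subgroup.coe_top, Subgroup.centralizer_univ]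

theorem Base.center_bot : Subgroup.center (stab d) = ⊥ := by
  rw [eq_bot_iff]
  intro z hz
  rw [Subgroup.mem_bot]
  set dd : stab d := ⟨d, comp_le_stab (comp_self d)⟩
  have hzC : (z : G) ∈ Subgroup.centralizer ({d} : Set G) :=
    Subgroup.mem_centralizer_singleton_iff.2 (congrArg Subtype.val (Subgroup.mem_center_iff.1 hz dd)).symm
  have hzc : (⟨z, hzC⟩ : Subgroup.centralizer ({d} : Set G)) ∈ Subgroup.center _ :=
    Subgroup.mem_center_iff.2 fun w => Subtype.ext
      (congrArg Subtype.val (Subgroup.mem_center_iff.1 hz ⟨w, centralizer_le_stab (comp_self d) w.2⟩) :)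
  have := hB.cen hzc
  rw [Subgroup.mem_subgroupOf] at this
  obtain ⟨i, hi⟩ := Subgroup.mem_zpowers_iff.1 this
  have hd2 : d ^ (2 : ℤ) = 1 := by rw [zpow_two, hB.sq (IsConj.refl d)]
  rcases Int.even_or_odd i with ⟨j, rfl⟩ | ⟨j, rfl⟩
  · refine Subtype.ext ?_
    show (z : G) = 1
    rw [← hi]
    show d ^ (j + j) = 1
    rw [← two_mul, zpow_mul, hd2, one_zpow]
  · exfalso
    have hzd : (z : G) = d := by
      rw [← hi]
      show d ^ (2 * j + 1) = d
      rw [zpow_add_one, zpow_mul, hd2, one_zpow, one_mul]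
    obtain ⟨c, hc, hdc⟩ := exists_far hB
    have := congrArg Subtype.val (Subgroup.mem_center_iff.1 hz ⟨c, comp_le_stab hc⟩)
    exact hdc (by rw [← hzd]; exact this.symm)

theorem Base.core [Finite G] : Core22 (stab d) (compIn d) := by
  obtain ⟨c, hc, hdc⟩ := exists_far hB
  set dd : stab d := ⟨d, comp_le_stab (comp_self d)⟩
  set cc : stab d := ⟨c, comp_le_stab hc⟩
  refine ⟨hB.center_bot, dd, comp_self d, cc, hc, fun h => hdc (congrArg Subtype.val h.eq), ?_, fun h => ?_⟩
  · obtain ⟨F, i1, i2, hF, ⟨f⟩⟩ := hB.isU6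
    set φ := ((Subgroup.closure (nb (compIn d) dd)).equivMapOfInjective _ (stab d).subtype_injective).trans
      (MulEquiv.subgroupCongr hB.map_closure_nb) with hφ
    refine ⟨F, i1, i2, hF, ⟨(QuotientGroup.congr _ _ φ ?_).trans f⟩⟩
    ext x
    rw [Subgroup.mem_map, Subgroup.mem_center_iff]
    constructor
    · rintro ⟨y, hy, rfl⟩ z
      obtain ⟨w, rfl⟩ := φ.surjective z
      show φ w * φ y = φ y * φ w
      rw [← map_mul, ← map_mul, Subgroup.mem_center_iff.1 hy w]
    · intro h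
      obtain ⟨y, rfl⟩ := φ.surjective x
      refine ⟨y, Subgroup.mem_center_iff.2 fun w => φ.injective ?_, rfl⟩
      rw [map_mul, map_mul]
      exact h (φ w)
  · set L := Subgroup.closure (nb (compIn d) dd ∩ nb (compIn d) cc)
    have hLd : L ≤ Subgroup.centralizer ({dd} : Set (stab d)) := (Subgroup.closure_le _).2 fun y hy =>
      Subgroup.mem_centralizer_singleton_iff.2 hy.1.2.2.eq.symm
    have hLc : L ≤ Subgroup.centralizer ({cc} : Set (stab d)) := (Subgroup.closure_le _).2 fun y hy =>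
      Subgroup.mem_centralizer_singleton_iff.2 hy.2.2.2.eq.symm
    refine hB.small (L.map (stab d).subtype) ?_ ?_ ?_
    · rintro _ ⟨y, hy, rfl⟩
      exact Subgroup.mem_centralizer_singleton_iff.2
        (congrArg Subtype.val (Subgroup.mem_centralizer_singleton_iff.1 (hLd hy)) :)
    · rintro ⟨y, hy, e⟩
      refine hdc ?_
      rw [← e]
      exact congrArg Subtype.val (Subgroup.mem_centralizer_singleton_iff.1 (hLc hy))
    · rw [Subgroup.card_map_of_injective (stab d).subtype_injective]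
      exact h.trans (Subgroup.card_quotient_dvd_card _)

theorem Base.cfg [Finite G] : Cfg22 (compIn d) := cfg22_of_core22 hB.ttSet hB.core

theorem Base.gen_inst : Gen (compIn d) := ⟨hB.gen_top⟩

end Cfsg.Agent.TransCent22
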