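import Cfsg.Agent.TransCent22.PairOdd

/-!
Facts about the component read off from the group of type M(22) stabilising it.
-/

set_option autoImplicit false
set_option linter.unusedSectionVars false

namespace Cfsg.Agent.TransCent22

open Cfsg.Agent.TT95 Cfsg.Agent.TT95.U6

variable {G : Type*} [Group G] [Finite G] {d : G} (hB : Base d)

include hB

/-- A conjugate of `d` stabilising the component lies in it. -/
theorem comp_of_mem_stab {x : G} (hx : x ∈ conjugatesOf d) (hs : x ∈ stab d) : x ∈ comp d := by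
  haveI := hB.gen_inst
  obtain ⟨c, hc, hxc⟩ := involution_fixes hB.cfg hB.core (g := (⟨x, hs⟩ : stab d)) (Subtype.ext (hB.sq hx))
  exact comp_of_commute hc hx (congrArg Subtype.val hxc.symm.eq)

/-- An element conjugating a member into the stabiliser lies in it. -/
theorem stab_of_conj {g x : G} (hx : x ∈ comp d) (h : g * x * g⁻¹ ∈ stab d) : g ∈ stab d :=
  mem_stab_of hx (comp_of_mem_stab hB (conj_inv d g (comp_sub hx)) h)

theorem comp_inv {x y : G} (hx : x ∈ comp d) (hy : y ∈ comp d) : y * x * y⁻¹ ∈ comp d :=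
  comp_conj (comp_le_stab hy) hx

/-- A member swaps no commuting pair. -/
theorem comp_centralize_two {a b c : G} (ha : a ∈ comp d) (hb : b ∈ comp d) (hc : c ∈ comp d)
    (hab : a ≠ b) (hcab : Commute a b) (h : Commute c (a * b)) : Commute c a ∧ Commute c b := by
  set A : stab d := ⟨a, comp_le_stab ha⟩
  set B : stab d := ⟨b, comp_le_stab hb⟩
  set C : stab d := ⟨c, comp_le_stab hc⟩
  obtain ⟨h1, h2⟩ := (ThreeTransp.centralize_two hB.ttSet.1 (a := A) (b := B) (e := C) ha hb hc
    (fun e => hab (congrArg Subtype.val e)) (Subtype.ext hcab.eq)).1 (Subtype.ext h.eq)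
  exact ⟨congrArg Subtype.val h1.eq, congrArg Subtype.val h2.eq⟩

theorem comp_pair_unique {a b x y : G} (ha : a ∈ comp d) (hb : b ∈ comp d) (hx : x ∈ comp d)
    (hy : y ∈ comp d) (hab : a ≠ b) (h1 : Commute a b) (h2 : Commute x y) (h : a * b = x * y) :
    (x = a ∧ y = b) ∨ (x = b ∧ y = a) := by
  rcases pair_unique hB.ttSet hB.cfg.tf (a := ⟨a, comp_le_stab ha⟩) (b := ⟨b, comp_le_stab hb⟩)
    (c := ⟨x, comp_le_stab hx⟩) (d := ⟨y, comp_le_stab hy⟩) ha hb hx hy
    (fun e => hab (congrArg Subtype.val e)) (Subtype.ext h1.eq) (Subtype.ext h2.eq) (Subtype.ext h) with ⟨e1, e2⟩ | ⟨e1, e2⟩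
  · exact Or.inl ⟨congrArg Subtype.val e1, congrArg Subtype.val e2⟩
  · exact Or.inr ⟨congrArg Subtype.val e1, congrArg Subtype.val e2⟩

theorem comp_three_notMem {a b c : G} (ha : a ∈ comp d) (hb : b ∈ comp d) (hc : c ∈ comp d)
    (hab : a ≠ b) (hac : a ≠ c) (hbc : b ≠ c) (h1 : Commute a b) (h2 : Commute a c) (h3 : Commute b c) :
    a * b * c ∉ conjugatesOf d := by
  intro h
  have hs := mul_mem (mul_mem (comp_le_stab ha) (comp_le_stab hb)) (comp_le_stab hc)
  exact mul_three_notMem hB.ttSet hB.cfg.tf (a := ⟨a, comp_le_stab ha⟩) (b := ⟨b, comp_le_stab hb⟩)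
    (c := ⟨c, comp_le_stab hc⟩) ha hb hc (fun e => hab (congrArg Subtype.val e))
    (fun e => hac (congrArg Subtype.val e)) (fun e => hbc (congrArg Subtype.val e))
    (Subtype.ext h1.eq) (Subtype.ext h2.eq) (Subtype.ext h3.eq) (comp_of_mem_stab hB h hs)

end Cfsg.Agent.TransCent22
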