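import Cfsg.Agent.ZStar.OddComm
import Cfsg.Agent.Lib.Thompson.Cores

/-!
An odd normal subgroup of the quotient by a central subgroup of exponent two comes from the odd core.
-/

set_option autoImplicit false

namespace Cfsg.Agent.TransCent22

/-- Elements over an odd normal subgroup lie in the odd core times the central subgroup. -/
theorem exists_mul_mem_core {X : Type*} [Group X] [Finite X] (Z : Subgroup X) [Z.Normal]
    (hZc : ∀ z ∈ Z, ∀ y : X, z * y = y * z) (hZ2 : ∀ z ∈ Z, z * z = 1) (N : Subgroup (X ⧸ Z)) [N.Normal]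
    (hN : Odd (Nat.card N)) {y : X} (hy : (QuotientGroup.mk y : X ⧸ Z) ∈ N) :
    ∃ z ∈ Z, z * y ∈ pPrimeCore 2 X := by
  classical
  set P0 := N.comap (QuotientGroup.mk' Z) with hP0
  have hle : Z ≤ P0 := fun z hz => by
    show (QuotientGroup.mk z : X ⧸ Z) ∈ N
    rw [(QuotientGroup.eq_one_iff z).2 hz]; exact one_mem N
  set Z0 := Z.subgroupOf P0 with hZ0
  letI : CommGroup Z0 := { Z0.toGroup with
    mul_comm := fun a b => Subtype.ext (Subtype.ext (hZc _ a.2 _)) }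
  have hidx : Z0.index = Nat.card N := by
    have h1 := Z0.card_mul_index
    rw [Nat.card_congr (Subgroup.subgroupOfEquivOfLe hle).toEquiv, ZStar.card_comap_mk Z N] at h1
    exact Nat.eq_of_mul_eq_mul_left Nat.card_pos h1
  have key : ∀ (y : P0) (i : ℕ) (g : P0), g⁻¹ * y ^ i * g ∈ Z0 → g⁻¹ * y ^ i * g = y ^ i := by
    intro y i g h
    have e : ((g⁻¹ * y ^ i * g : P0) : X) * (g : X) = (g : X) * ((g⁻¹ * y ^ i * g : P0) : X) := hZc _ h (g : X)
    have h' : ((g⁻¹ * y ^ i * g : P0) : X) = (y ^ i : P0) := by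
      calc ((g⁻¹ * y ^ i * g : P0) : X) = (g : X) * ((g⁻¹ * y ^ i * g : P0) : X) * (g : X)⁻¹ := by
            rw [← e, mul_inv_cancel_right]
        _ = (y ^ i : P0) := by simp [mul_assoc]
    exact Subtype.ext h'
  let φ : P0 →* Z0 := MonoidHom.transfer (MonoidHom.id Z0)
  have hφ : ∀ y : P0, (((φ y : Z0) : P0) : X) = (y : X) ^ Nat.card N := fun y => by
    rw [show φ y = (MonoidHom.id Z0) ⟨y ^ Z0.index, MonoidHom.transfer_eq_pow_aux y (key y)⟩ from
      MonoidHom.transfer_eq_pow (MonoidHom.id Z0) y (key y)]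
    simp [hidx]
  set K : Subgroup X := φ.ker.map P0.subtype with hK
  have hmem : ∀ w, w ∈ K ↔ w ∈ P0 ∧ w ^ Nat.card N = 1 := by
    intro w
    constructor
    · rintro ⟨a, ha, rfl⟩
      refine ⟨a.2, ?_⟩
      have := hφ a
      rw [MonoidHom.mem_ker.1 ha] at this
      exact this.symm
    · rintro ⟨hw, h⟩
      refine ⟨⟨w, hw⟩, MonoidHom.mem_ker.2 (Subtype.ext (Subtype.ext ?_)), rfl⟩
      rw [hφ]; exact h
  have hKn : K.Normal := ⟨fun w hw g => by
    rw [hmem] at hw ⊢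
    exact ⟨(inferInstance : P0.Normal).conj_mem w hw.1 g, by rw [conj_pow, hw.2, mul_one, mul_inv_cancel]⟩⟩
  have hKodd : (Nat.card K).Coprime 2 := by
    refine Nat.coprime_two_right.2 (Nat.not_even_iff_odd.1 fun h => ?_)
    haveI : Fact (Nat.Prime 2) := ⟨Nat.prime_two⟩
    obtain ⟨w, hw⟩ := exists_prime_orderOf_dvd_card' (G := K) 2 (even_iff_two_dvd.1 h)
    have h1 : orderOf w ∣ Nat.card N := orderOf_dvd_of_pow_eq_one (Subtype.ext ((hmem w).1 w.2).2)
    rw [hw] at h1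
    exact Nat.not_even_iff_odd.2 hN (even_iff_two_dvd.2 h1)
  have hy' : y ∈ P0 := hy
  have hz : y ^ Nat.card N ∈ Z := by
    rw [← hφ ⟨y, hy'⟩]; exact (φ ⟨y, hy'⟩).2
  refine ⟨_, hz, Thompson.le_pPrimeCore hKn hKodd ((hmem _).2 ⟨mul_mem (hle hz) hy', ?_⟩)⟩
  obtain ⟨k, hk⟩ := hN
  have h2 : (y ^ Nat.card N) ^ (2 * k + 1) = y ^ Nat.card N := by
    rw [pow_succ, pow_mul, pow_two, hZ2 _ hz, one_pow, one_mul]
  rw [(show Commute (y ^ Nat.card N) y from hZc _ hz y).mul_pow]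
  nth_rewrite 2 [hk]
  rw [h2]
  exact hZ2 _ hz

end Cfsg.Agent.TransCent22
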