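import Mathlib

/-!
A subgroup avoiding a central involution of a perfect group cannot hold half of the full power of two.
-/

set_option autoImplicit false

namespace Cfsg.Agent.TransCent22

/-- In a perfect group, a subgroup avoiding a central involution has less than half of the full power of two. -/
theorem not_dvd_of_perfect {C : Type*} [Group C] [Finite C] (hperf : commutator C = ⊤) {d : C}
    (hdd : d * d = 1) (hd1 : d ≠ 1) (hdc : ∀ c : C, c * d = d * c) {k : ℕ}
    (hk : ¬ 2 ^ (k + 3) ∣ Nat.card C) (S : Subgroup C) (hdS : d ∉ S) : ¬ 2 ^ (k + 1) ∣ Nat.card S := by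
  classical
  intro hS
  haveI : Fact (Nat.Prime 2) := ⟨Nat.prime_two⟩
  have hZ : ∀ z : Subgroup.zpowers d, (z : C) = 1 ∨ (z : C) = d := by
    rintro ⟨z, hz⟩
    obtain ⟨i, rfl⟩ := Subgroup.mem_zpowers_iff.1 hz
    have hd2 : d ^ (2 : ℤ) = 1 := by rw [zpow_two, hdd]
    rcases Int.even_or_odd i with ⟨j, rfl⟩ | ⟨j, rfl⟩
    · left; show d ^ (j + j) = 1; rw [← two_mul, zpow_mul, hd2, one_zpow]
    · right; show d ^ (2 * j + 1) = d; rw [zpow_add_one, zpow_mul, hd2, one_zpow, one_mul]
  set Z := Subgroup.zpowers d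
  let ψ0 : S × Z →* C := MonoidHom.noncommCoprod S.subtype Z.subtype fun s z => by
    rcases hZ z with e | e <;> show Commute (s : C) (z : C) <;> rw [e]
    · exact Commute.one_right _
    · exact hdc s
  have hinj : Function.Injective ψ0 := (injective_iff_map_eq_one ψ0).2 fun x hx => by
    have hx' : (x.1 : C) * (x.2 : C) = 1 := hx
    have h2 : (x.2 : C) ∈ S := by
      rw [eq_inv_of_mul_eq_one_right hx']
      exact inv_mem x.1.2
    rcases hZ x.2 with e | e
    · rw [e, mul_one] at hx'
      exact Prod.ext (Subtype.ext hx') (Subtype.ext e)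
    · rw [e] at h2; exact absurd h2 hdS
  set T := ψ0.range with hT
  have hcardZ : Nat.card Z = 2 := by
    rw [Nat.card_zpowers, orderOf_eq_prime (by rw [pow_two, hdd]) hd1]
  have hcardT : Nat.card T = Nat.card S * 2 := by
    rw [← Nat.card_congr (MonoidHom.ofInjective hinj).toEquiv, Nat.card_prod, hcardZ]
  have hidx : Odd T.index := by
    rcases Nat.even_or_odd T.index with h | h
    · exfalso
      apply hk
      rw [← T.card_mul_index, hcardT]
      obtain ⟨a, ha⟩ := hS
      obtain ⟨b, hb⟩ := h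
      exact ⟨a * b, by rw [ha, hb]; ring⟩
    · exact h
  let eqv : (S × Z) ≃* T := MonoidHom.ofInjective hinj
  letI : CommGroup Z := { Z.toGroup with
    mul_comm := fun a b => Subtype.ext (by
      rcases hZ a with e | e <;> show (a : C) * b = b * a <;> rw [e]
      · simp
      · exact (hdc b).symm) }
  let φ : T →* Z := (MonoidHom.snd _ _).comp eqv.symm.toMonoidHom
  let tr : C →* Z := MonoidHom.transfer φ
  have key : ∀ (i : ℕ) (g : C), g⁻¹ * d ^ i * g ∈ T → g⁻¹ * d ^ i * g = d ^ i := fun i g _ => by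
    rw [mul_assoc, (Commute.pow_left (hdc g).symm i).eq, inv_mul_cancel_left]
  have htriv : tr d = 1 := by
    have : d ∈ tr.ker := Abelianization.commutator_subset_ker tr (by rw [hperf]; trivial)
    exact this
  rw [show tr d = φ ⟨d ^ T.index, MonoidHom.transfer_eq_pow_aux d key⟩ from
    MonoidHom.transfer_eq_pow φ d key] at htriv
  obtain ⟨j, hj⟩ := hidx
  have hdpow : d ^ T.index = d := by rw [hj, pow_succ, pow_mul, pow_two, hdd, one_pow, one_mul]
  have he : eqv (1, ⟨d, Subgroup.mem_zpowers d⟩) =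
      ⟨d ^ T.index, MonoidHom.transfer_eq_pow_aux d key⟩ :=
    Subtype.ext (by show (1 : C) * d = d ^ T.index; rw [one_mul, hdpow])
  rw [← he] at htriv
  simp only [φ, MonoidHom.coe_comp, MulEquiv.coe_toMonoidHom, Function.comp_apply,
    MulEquiv.symm_apply_apply, MonoidHom.coe_snd] at htriv
  exact hd1 (Subtype.ext_iff.1 htriv)

end Cfsg.Agent.TransCent22
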