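import Cfsg.Agent.U6Thompson.Count
import Cfsg.Agent.TT95.Types
import Cfsg.Agent.Lib.Components.Basic
import Cfsg.Agent.Lib.Unitary.Simple
import Cfsg.Agent.TransCent22.Split

/-!
The point model on the commuting conjugates of a transposition with centraliser a double cover of U6(2).
-/

set_option autoImplicit false
set_option linter.unusedSectionVars false

namespace Cfsg.Agent.TransCent22

open Cfsg.Agent.TT95 Cfsg.Agent.TT95.U6

/-- What is used of the centraliser of `d`. -/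
structure Base {G : Type*} [Group G] (d : G) : Prop where
  ord : orderOf d = 2
  loc : ∃ γ, IsLocal (conjugatesOf d) d γ
  gen : Subgroup.closure (nb (conjugatesOf d) d) = Subgroup.centralizer ({d} : Set G)
  top : ∀ N : Subgroup (Subgroup.centralizer ({d} : Set G)), N.Normal →
    ∀ x ∈ N, (x : G) ≠ 1 → (x : G) ≠ d → N = ⊤
  isU6 : IsU6 (ModCenter (Subgroup.centralizer ({d} : Set G)))
  cen : Subgroup.center (Subgroup.centralizer ({d} : Set G)) ≤
    (Subgroup.zpowers d).subgroupOf (Subgroup.centralizer ({d} : Set G))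
  small : ∀ S : Subgroup G, S ≤ Subgroup.centralizer ({d} : Set G) → d ∉ S → ¬ 2 ^ 15 ∣ Nat.card S

theorem base_of_hyp {G : Type*} [Group G] [Finite G] (d : G) (hd : orderOf d = 2)
    (hq : Cfsg.IsQuasisimple (Subgroup.centralizer ({d} : Set G)))
    [((Subgroup.zpowers d).subgroupOf (Subgroup.centralizer ({d} : Set G))).Normal]
    (K : Type) [Field K] [Fintype K] (hK : Fintype.card K = 4)
    (e : (Subgroup.centralizer ({d} : Set G)) ⧸ (Subgroup.zpowers d).subgroupOf (Subgroup.centralizer ({d} : Set G)) ≃* Cfsg.PSU 6 K 2)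
    (hnwc : ∃ g : G, g * d * g⁻¹ ∈ Subgroup.centralizer ({d} : Set G) ∧ g * d * g⁻¹ ≠ d) : Base d := by
  classical
  have hF : Fintype.card K = 2 ^ 2 := by rw [hK]; norm_num
  let H := Subgroup.centralizer ({d} : Set G)
  let π : H →* PSU 6 K 2 := e.toMonoidHom.comp (QuotientGroup.mk' ((Subgroup.zpowers d).subgroupOf H))
  have hπ : Function.Surjective π := e.surjective.comp (QuotientGroup.mk'_surjective _)
  have hd2 : d * d = 1 := by rw [← pow_two, ← hd, pow_orderOf_eq_one]
  have hd1 : d ≠ 1 := fun h => by rw [h, orderOf_one] at hd; omega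
  set dC : H := ⟨d, Subgroup.mem_centralizer_singleton_iff.2 rfl⟩ with hdC
  have hdd : dC * dC = 1 := Subtype.ext hd2
  have hdC1 : dC ≠ 1 := fun h => hd1 (congrArg Subtype.val h)
  have hdc : ∀ c : H, c * dC = dC * c := fun c =>
    Subtype.ext (Subgroup.mem_centralizer_singleton_iff.1 c.2)
  have hker : ∀ c, π c = 1 ↔ c = 1 ∨ c = dC := fun c => by
    rw [show π c = e (QuotientGroup.mk c) from rfl, map_eq_one_iff e e.injective,
      QuotientGroup.eq_one_iff, Subgroup.mem_subgroupOf]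
    refine ⟨fun h => ?_, ?_⟩
    · obtain ⟨n, hn⟩ := Subgroup.mem_zpowers_iff.1 h
      rcases Int.emod_two_eq_zero_or_one n with h | h <;>
        rw [← zpow_mod_orderOf, hd, Nat.cast_ofNat, h] at hn
      · exact Or.inl (Subtype.ext (hn.symm.trans (zpow_zero d)))
      · exact Or.inr (Subtype.ext (hn.symm.trans (zpow_one d)))
    · rintro (rfl | rfl)
      · exact one_mem _
      · exact Subgroup.mem_zpowers d
  let P : H → Prop := fun x => IsConj d (x : G)
  have hconjd : ∀ c : H, (c : G) * d * (c : G)⁻¹ = d := fun c => by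
    rw [Subgroup.mem_centralizer_singleton_iff.1 c.2, mul_inv_cancel_right]
  have hPc : ∀ c x : H, P (c * x * c⁻¹) ↔ P x := fun c x => by
    refine ⟨fun h => h.trans (isConj_iff.2 ⟨(c : G)⁻¹, ?_⟩),
      fun h => h.trans (isConj_iff.2 ⟨(c : G), rfl⟩)⟩
    show (c : G)⁻¹ * ((c : G) * x * (c : G)⁻¹) * (c : G)⁻¹⁻¹ = x
    group
  have hP1 : ¬ P 1 := fun h => by
    obtain ⟨g, hg⟩ := isConj_iff.1 h
    exact hd1 (conj_eq_one_iff.1 hg)
  have hPinv : ∀ x, P x → x * x = 1 := fun x h => by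
    obtain ⟨g, hg⟩ := isConj_iff.1 h
    refine Subtype.ext ?_
    show (x : G) * x = 1
    rw [← hg, show g * d * g⁻¹ * (g * d * g⁻¹) = g * (d * d) * g⁻¹ by group, hd2, mul_one,
      mul_inv_cancel]
  have hPsq : ∀ y : H, ¬ P (y * y) := fun y h => by
    obtain ⟨g, hg⟩ := isConj_iff.1 h
    set z := g⁻¹ * (y : G) * g with hz
    have hzz : z * z = d := by
      rw [hz, show g⁻¹ * (y : G) * g * (g⁻¹ * (y : G) * g) = g⁻¹ * ((y : G) * y) * g by group,
        show (y : G) * y = g * d * g⁻¹ from hg.symm]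
      group
    have hzH : z ∈ H := Subgroup.mem_centralizer_singleton_iff.2 (by rw [← hzz]; group)
    have h1 : π ⟨z, hzH⟩ * π ⟨z, hzH⟩ = 1 := by
      rw [← map_mul]; exact (hker _).2 (Or.inr (Subtype.ext hzz))
    have := congrArg Subtype.val
      (RecogB.CoverInvolution.sq_eq_one_of_image hF π hπ dC hker hdd hdc h1)
    exact hd1 (hzz ▸ this)
  have hNW : ∃ x, P x ∧ x ≠ dC := by
    obtain ⟨g, hg, hne⟩ := hnwc
    exact ⟨⟨_, hg⟩, isConj_iff.2 ⟨g, rfl⟩, fun h => hne (congrArg Subtype.val h)⟩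
  set AG : Subgroup G := (U6Thompson.Ab π).map H.subtype with hAG
  have memAG : ∀ z : G, z ∈ AG ↔ ∃ h : z ∈ H, (⟨z, h⟩ : H) ∈ U6Thompson.Ab π := fun z =>
    ⟨by rintro ⟨w, hw, rfl⟩; exact ⟨w.2, hw⟩, fun ⟨h, hz⟩ => ⟨_, hz, rfl⟩⟩
  have hEA := U6Thompson.Ab_EA hF π hπ dC hker hdd hdC1 hdc
  have hmove : ∀ z ∈ AG, IsConj d z →
      ∃ n : G, n * d * n⁻¹ = z ∧ ∀ a, a ∈ AG ↔ n * a * n⁻¹ ∈ AG := by
    intro z hz hzc
    obtain ⟨g, hg⟩ := isConj_iff.1 hzc
    obtain ⟨hzH, hzA⟩ := (memAG z).1 hz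
    let D : Subgroup H := (AG.comap (MulAut.conj g).toMonoidHom).subgroupOf H
    have hin : ∀ a ∈ AG, g⁻¹ * a * g ∈ H := fun a ha => by
      obtain ⟨haH, haA⟩ := (memAG a).1 ha
      have hc : a * z = z * a := congrArg Subtype.val (congrArg Subtype.val
        (hEA.1.is_comm.comm (⟨⟨a, haH⟩, haA⟩ : U6Thompson.Ab π) ⟨⟨z, hzH⟩, hzA⟩))
      refine Subgroup.mem_centralizer_singleton_iff.2 ?_
      calc g⁻¹ * a * g * d = g⁻¹ * (a * z) * g := by rw [← hg]; group
        _ = g⁻¹ * (z * a) * g := by rw [hc]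
        _ = d * (g⁻¹ * a * g) := by rw [← hg]; group
    have hDc : Nat.card D = 2 ^ 10 := by
      rw [← U6Thompson.card_Ab hF π hπ dC hker hdd hdC1 hdc,
        ← (show Nat.card AG = Nat.card (U6Thompson.Ab π) from
          Subgroup.card_map_of_injective H.subtype_injective)]
      exact Nat.card_congr
        { toFun := fun a => ⟨g * a.1.1 * g⁻¹, a.2⟩
          invFun := fun a => ⟨⟨g⁻¹ * a.1 * g, hin _ a.2⟩, by
            show g * (g⁻¹ * a.1 * g) * g⁻¹ ∈ AG
            rw [show g * (g⁻¹ * a.1 * g) * g⁻¹ = a.1 by group]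
            exact a.2⟩
          left_inv := fun a => by ext; simp [mul_assoc]
          right_inv := fun a => by ext; simp [mul_assoc] }
    have hDe : IsElementaryAbelian 2 D := by
      refine ⟨⟨⟨fun a b => ?_⟩⟩, fun a ha => ?_⟩
      · obtain ⟨h1, h1'⟩ := (memAG _).1 a.2
        obtain ⟨h2, h2'⟩ := (memAG _).1 b.2
        have hc : g * a.1.1 * g⁻¹ * (g * b.1.1 * g⁻¹) = g * b.1.1 * g⁻¹ * (g * a.1.1 * g⁻¹) :=
          congrArg Subtype.val (congrArg Subtype.val
            (hEA.1.is_comm.comm (⟨_, h1'⟩ : U6Thompson.Ab π) ⟨_, h2'⟩))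
        rw [conj_mul, conj_mul] at hc
        ext
        exact mul_left_cancel (mul_right_cancel hc)
      · obtain ⟨h1, h1'⟩ := (memAG _).1 ha
        have hc : (g * a.1 * g⁻¹) ^ 2 = 1 := congrArg Subtype.val (hEA.2 _ h1')
        rw [conj_pow, conj_eq_one_iff] at hc
        exact Subtype.ext hc
    obtain ⟨c, hc⟩ := (U6Thompson.EA_cover hF π hπ dC hker hdd hdC1 hdc D hDe).2 hDc
    refine ⟨g * (c : G)⁻¹, ?_, fun a => ?_⟩
    · have h1 : (c : G)⁻¹ * d * ((c : G)⁻¹)⁻¹ = d := hconjd c⁻¹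
      calc g * (c : G)⁻¹ * d * (g * (c : G)⁻¹)⁻¹
          = g * ((c : G)⁻¹ * d * ((c : G)⁻¹)⁻¹) * g⁻¹ := by group
        _ = z := by rw [h1, hg]
    · constructor
      · intro ha
        obtain ⟨haH, haA⟩ := (memAG a).1 ha
        have h2 : c⁻¹ * (⟨a, haH⟩ : H) * c ∈ D := (hc _).2 (by
          rw [show c * (c⁻¹ * (⟨a, haH⟩ : H) * c) * c⁻¹ = ⟨a, haH⟩ by group]; exact haA)
        have h3 : g * ((c : G)⁻¹ * a * c) * g⁻¹ ∈ AG := h2
        rwa [show g * (c : G)⁻¹ * a * (g * (c : G)⁻¹)⁻¹ = g * ((c : G)⁻¹ * a * c) * g⁻¹ by group]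
      · intro ha
        rw [show g * (c : G)⁻¹ * a * (g * (c : G)⁻¹)⁻¹ = g * ((c : G)⁻¹ * a * c) * g⁻¹ by group] at ha
        have hw : (c : G)⁻¹ * a * c ∈ H := by
          have := hin _ ha
          rwa [show g⁻¹ * (g * ((c : G)⁻¹ * a * c) * g⁻¹) * g = (c : G)⁻¹ * a * c by group] at this
        have h4 := (hc ⟨_, hw⟩).1 ha
        exact ⟨_, h4, by show (c : G) * ((c : G)⁻¹ * a * c) * (c : G)⁻¹ = a; group⟩
  have hT : ∀ (x : H) (hx : x ∈ U6Thompson.Ab π), P x → ∃ φ : U6Thompson.Ab π ≃* U6Thompson.Ab π,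
      (∀ a : U6Thompson.Ab π, (a : H) = dC → φ a = ⟨x, hx⟩) ∧
        ∀ a : U6Thompson.Ab π, P (φ a : H) ↔ P (a : H) := by
    intro x hx hPx
    obtain ⟨n, hn, hnA⟩ := hmove (x : G) ⟨x, hx, rfl⟩ hPx
    let f : U6Thompson.Ab π → U6Thompson.Ab π := fun a =>
      ⟨⟨n * (a.1 : G) * n⁻¹, ((memAG _).1 ((hnA _).1 ⟨a.1, a.2, rfl⟩)).choose⟩,
        ((memAG _).1 ((hnA _).1 ⟨a.1, a.2, rfl⟩)).choose_spec⟩
    have hf : Function.Bijective f := Finite.injective_iff_bijective.1 fun a b h => by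
      have h' : n * (a.1 : G) * n⁻¹ = n * (b.1 : G) * n⁻¹ :=
        congrArg (fun z : U6Thompson.Ab π => (z.1 : G)) h
      exact Subtype.ext (Subtype.ext (mul_left_cancel (mul_right_cancel h')))
    refine ⟨MulEquiv.mk (Equiv.ofBijective f hf) fun a b => Subtype.ext (Subtype.ext ?_), ?_, ?_⟩
    · show n * ((a.1 : G) * b.1) * n⁻¹ = n * a.1 * n⁻¹ * (n * b.1 * n⁻¹)
      group
    · intro a ha
      refine Subtype.ext (Subtype.ext ?_)
      show n * (a.1 : G) * n⁻¹ = x
      rw [ha]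
      exact hn
    · intro a
      show IsConj d (n * (a.1 : G) * n⁻¹) ↔ IsConj d (a.1 : G)
      exact ⟨fun h => h.trans (isConj_iff.2 ⟨n⁻¹, by group⟩),
        fun h => h.trans (isConj_iff.2 ⟨n, rfl⟩)⟩
  have hperf : commutator H = ⊤ := Group.isPerfect_def.1 hq.1
  have hcount := U6Thompson.card_eq hF π hπ dC hker hdd hdC1 hdc P (IsConj.refl d) hP1 hPc hPsq
    hPinv hNW hT hperf
  have hformula := U6Thompson.card_formula hF π hπ dC hker hdd hdC1 hdc P (IsConj.refl d) hP1 hPc hPsq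
    hPinv hNW hT hperf
  have l0 := U6Thompson.mult_le_one hF π hπ dC hker hdd hdC1 hdc P (IsConj.refl d) hP1 hPc hPsq
    hPinv hNW hT hperf (r := 0) (by norm_num)
  obtain ⟨hm0, hm1, hm2⟩ : U6Thompson.mult hF π P 0 = 1 ∧ U6Thompson.mult hF π P 1 = 0 ∧
      U6Thompson.mult hF π P 2 = 0 := by
    rw [hcount] at hformula
    omega
  -- the transvection of the standard vector
  have hav := U6Thompson.herm_av_av (F := K) hF 0 0
  set T0 : Cfsg.SU 6 K 2 := RecogB.CoverInvolution.T hF hav with hT0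
  have hrep : U6Thompson.elt hF (U6Thompson.rep 0) = T0 := by
    have h1 : ∀ i, U6Thompson.diagEl hF i 0 = (1 : Cfsg.SU 6 K 2) := fun i => if_pos rfl
    have h2 : U6Thompson.diagEl hF 0 1 = T0 := if_neg (by decide)
    have h3 : ∀ i j, U6Thompson.offEl hF i j (U6Thompson.val hF 0) = (1 : Cfsg.SU 6 K 2) := fun i j =>
      U6Thompson.key_injective hF (U6Thompson.offEl_mem hF _ _ _) (one_mem _) fun k l => by
        rw [U6Thompson.offEl_key, U6Thompson.key_one]
        simp [U6Thompson.val]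
    show U6Thompson.diagEl hF 0 1 * (U6Thompson.diagEl hF 1 0 * (U6Thompson.diagEl hF 2 0 * (_ * (_ * _)))) = _
    rw [h2, h1, h1]
    simp only [U6Thompson.rep, h3, mul_one]
  have htT : ∀ (u : Fin 6 → K) (hu : Cfsg.Agent.Unitary.herm 2 u u = 0),
      RecogB.CoverInvolution.T hF hu = tSU hK u := by
    intro u hu
    refine act_ext fun x => ?_
    rw [act_tSU hK (show hf u u = 0 from hu)]
    exact RecogB.CoverInvolution.T_smul hF hu x
  have hav0 : (U6Thompson.av 0 : Fin 6 → K) ≠ 0 := fun h => by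
    have := congrFun h 0
    simp [U6Thompson.av, Cfsg.Agent.Unitary.eI] at this
  obtain ⟨p0, hp0, c0, hc0, hv0⟩ := exists_pt hK hav0 hav
  have hT0t : QuotientGroup.mk T0 = tau hK p0 := by
    rw [hT0, htT, hv0, tSU_smul hK (pt_iso hK hp0) hc0]
    rfl
  have hconjT : ∀ p, isPt p = true → ∃ c : H, ∀ x : H, π (c * x * c⁻¹) = tau hK p ↔ π x = QuotientGroup.mk T0 := by
    intro p hp
    obtain ⟨t, -, ht⟩ := Cfsg.Agent.Unitary.exists_move hF (S := (∅ : Finset (Fin 6)))
      (by rw [Finset.compl_empty, Finset.card_univ, Fintype.card_fin]; norm_num)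
      (u := (U6Thompson.av 0 : Fin 6 → K)) (u' := vecOf hK p)
      (by simp [Cfsg.Agent.Unitary.supp_empty]) (by simp [Cfsg.Agent.Unitary.supp_empty]) hav (pt_iso hK hp)
      hav0 (pt_ne_zero hK hp)
    obtain ⟨c, hc⟩ := hπ (QuotientGroup.mk t)
    have hmove : tau hK p = π c * QuotientGroup.mk T0 * (π c)⁻¹ := by
      have he := Cfsg.Agent.Unitary.conj_tv hF t hav (RecogB.CoverInvolution.one_trace hF)
      rw [hc, ← QuotientGroup.mk_inv, ← QuotientGroup.mk_mul, ← QuotientGroup.mk_mul]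
      show QuotientGroup.mk _ = QuotientGroup.mk (t * T0 * t⁻¹)
      congr 1
      rw [hT0, he, ← htT _ (pt_iso hK hp)]
      exact RecogB.CoverInvolution.T_congr hF _ _ ht.symm
    refine ⟨c, fun x => ?_⟩
    rw [map_mul, map_mul, map_inv, hmove, mul_left_inj, mul_right_inj]
  have hfib0 : (U6Thompson.fib hF π P (U6Thompson.rep 0)).card = 1 := hm0
  have hlift : ∀ p, isPt p = true → ∃! x : H, π x = tau hK p ∧ P x := by
    intro p hp
    obtain ⟨c, hc⟩ := hconjT p hp
    obtain ⟨x, hx⟩ := Finset.card_eq_one.1 hfib0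
    have hx' := (U6Thompson.mem_fib hF π P).1 (hx ▸ Finset.mem_singleton_self x)
    rw [hrep] at hx'
    refine ⟨c * x * c⁻¹, ⟨(hc x).2 hx'.1, (hPc c x).2 hx'.2⟩, ?_⟩
    rintro y ⟨hy1, hy2⟩
    have hy : c⁻¹ * y * c ∈ U6Thompson.fib hF π P (U6Thompson.rep 0) := by
      rw [U6Thompson.mem_fib, hrep]
      refine ⟨(hc _).1 ?_, (hPc c _).1 ?_⟩ <;>
        rw [show c * (c⁻¹ * y * c) * c⁻¹ = y by group] <;> assumption
    rw [hx, Finset.mem_singleton] at hy
    rw [← hy]
    group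
  have hsurj : ∀ x : H, P x → x ≠ dC → ∃ p, isPt p = true ∧ π x = tau hK p := by
    intro x hPx hxd
    obtain ⟨k, hk⟩ := U6Thompson.exists_conj_mem_Eb hF (x := π x) (by rw [← map_mul, hPinv x hPx, map_one])
    obtain ⟨c, rfl⟩ := hπ k
    have hc : c * x * c⁻¹ ∈ U6Thompson.Ab π := by
      show π (c * x * c⁻¹) ∈ U6Thompson.Eb
      rwa [map_mul, map_mul, map_inv]
    have hP' := (hPc c x).2 hPx
    have h1 : c * x * c⁻¹ ≠ 1 := fun h => hP1 (h ▸ hP')
    have h2 : c * x * c⁻¹ ≠ dC := fun h => hxd (by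
      calc x = c⁻¹ * (c * x * c⁻¹) * c := by group
        _ = dC := by rw [h, mul_assoc, ← hdc c, inv_mul_cancel_left])
    obtain ⟨p, hp0', hpx, hmu, hcls⟩ := U6Thompson.exists_cls hF π hπ dC hker hdd hdC1 hdc P
      (IsConj.refl d) hP1 hPc hPsq hPinv hNW hT hperf hc h1 h2
    have hpos : 0 < (U6Thompson.fib hF π P p).card :=
      Finset.card_pos.2 ⟨_, (U6Thompson.mem_fib hF π P).2 ⟨hpx, hP'⟩⟩
    rw [hmu] at hpos
    have hcl : U6Thompson.cls p = 0 := by
      interval_cases h : U6Thompson.cls p <;> omega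
    obtain ⟨n, hn⟩ := U6Thompson.conj_rep hF p hp0'
    rw [hcl, hrep] at hn
    -- the image is conjugate to a transvection
    obtain ⟨w, hw⟩ : ∃ w : Cfsg.SU 6 K 2, π x = QuotientGroup.mk (w * T0 * w⁻¹) := by
      obtain ⟨c', hc'⟩ := QuotientGroup.mk_surjective (π c)
      refine ⟨c'⁻¹ * n⁻¹, ?_⟩
      have h3 : U6Thompson.elt hF p = n⁻¹ * T0 * n := by
        rw [← hn]; group
      have h4 : π x = (π c)⁻¹ * π (c * x * c⁻¹) * π c := by
        simp only [map_mul, map_inv]; group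
      rw [h4, hpx, h3, ← hc']
      simp only [RecogB.CoverInvolution.im, QuotientGroup.mk_mul, QuotientGroup.mk_inv]
      group
    obtain ⟨q, hq, a, ha, hv⟩ := exists_pt hK (v := w • (U6Thompson.av 0 : Fin 6 → K))
      (fun h => hav0 (by rwa [smul_eq_zero_iff_eq] at h))
      ((Cfsg.Agent.Unitary.herm_smul_SU w _ _).trans hav)
    refine ⟨q, hq, ?_⟩
    rw [hw]
    show QuotientGroup.mk _ = QuotientGroup.mk (tSU hK (vecOf hK q))
    congr 1
    rw [hT0]
    refine (Cfsg.Agent.Unitary.conj_tv hF w hav (RecogB.CoverInvolution.one_trace hF)).trans ?_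
    refine (htT _ _).trans ?_
    rw [hv, tSU_smul hK (pt_iso hK hq) ha]
  choose! lift hliftS hliftU using hlift
  set γ : ℕ → G := fun p => (lift p : G) with hγ
  have hval : ∀ p, isPt p = true → π (lift p) = tau hK p := fun p hp => (hliftS p hp).1
  have hPl : ∀ p, isPt p = true → P (lift p) := fun p hp => (hliftS p hp).2
  have htau1 : ∀ p, isPt p = true → tau hK p ≠ 1 := by
    intro p hp h
    have he : tSU hK (vecOf hK p) = 1 := lift_unique hK (h.trans (QuotientGroup.mk_one _).symm)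
      (tSU_sq hK (pt_iso hK hp)) (one_mul 1)
    obtain ⟨y, hy⟩ := exists_hf_eq_one hK (pt_ne_zero hK hp)
    have := congrArg (fun g => act g y) he
    simp only [act_tSU hK (pt_iso hK hp), act_one, hy, one_smul] at this
    exact pt_ne_zero hK hp (add_eq_left.1 this)
  have hld : ∀ p, isPt p = true → lift p ≠ dC := fun p hp h => htau1 p hp (by
    rw [← hval p hp, h]; exact (hker _).2 (Or.inr rfl))
  have hmem : ∀ p, isPt p = true → γ p ∈ nb (conjugatesOf d) d := fun p hp =>
    ⟨hPl p hp, fun h => hld p hp (Subtype.ext h),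
      (Subgroup.mem_centralizer_singleton_iff.1 (lift p).2).symm⟩
  have hloc : IsLocal (conjugatesOf d) d γ := by
    refine ⟨hmem, ?_, ?_, ?_, fun _ _ => isPt_tv' hK, ?_, ?_⟩
    · rintro x ⟨hx, hxd, hxc⟩
      have hxH : x ∈ H := Subgroup.mem_centralizer_singleton_iff.2 hxc.eq.symm
      obtain ⟨p, hp, hpx⟩ := hsurj ⟨x, hxH⟩ hx (fun h => hxd (congrArg Subtype.val h))
      exact ⟨p, hp, congrArg Subtype.val (hliftU p hp ⟨x, hxH⟩ ⟨hpx, hx⟩).symm⟩
    · intro p q hp hq h
      exact tau_inj hK hp hq (by rw [← hval p hp, ← hval q hq, Subtype.ext h])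
    · intro p q hp hq
      constructor
      · intro h
        refine (tau_comm_iff hK hp hq).1 ?_
        rw [← hval p hp, ← hval q hq]
        exact (show Commute (lift p) (lift q) from Subtype.ext h.eq).map π
      · intro h
        have hh : hf (vecOf hK p) (vecOf hK q) = 0 :=
          (hf_vecOf_eq_zero hK (isPt_spec hp).1 (isPt_spec hq).1).2 (Nat.eq_of_beq_eq_true h)
        have := RecogB.CoverInvolution.commute_lifts hF π hπ dC hker hdd hdc (pt_iso hK hp) (pt_iso hK hq) hh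
          (y := lift p) (z := lift q) ((hval p hp).trans (congrArg QuotientGroup.mk (htT _ _).symm))
          ((hval q hq).trans (congrArg QuotientGroup.mk (htT _ _).symm))
        exact congrArg Subtype.val this.eq
    · intro a b ha hb
      have hab := isPt_tv' hK ha hb
      refine congrArg Subtype.val (hliftU _ hab (lift a * lift b * (lift a)⁻¹) ⟨?_, (hPc _ _).2 (hPl b hb)⟩)
      rw [map_mul, map_mul, map_inv, hval a ha, hval b hb, tau_eq_act hK ha hb]
    · intro y hy
      obtain ⟨q1, q4, q5, q9, q13⟩ : isPt 1 = true ∧ isPt 4 = true ∧ isPt 5 = true ∧ isPt 9 = true ∧ isPt 13 = true := by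
        decide +kernel
      have h : π (lift 1 * lift 4 * lift 5 * lift 9 * lift 13) = 1 := by
        simp only [map_mul, hval 1 q1, hval 4 q4, hval 5 q5, hval 9 q9, hval 13 q13, tau_line hK]
      show Commute ((lift 1 * lift 4 * lift 5 * lift 9 * lift 13 : H) : G) y
      rcases (hker _).1 h with h' | h' <;> rw [h']
      · exact Commute.one_left y
      · exact hy.2.2
  have hcd : ∀ z : H, (z : G) ≠ 1 → (z : G) ≠ d → π z ≠ 1 := fun z h1 h2 h =>
    ((hker z).1 h).elim (fun e => h1 (congrArg Subtype.val e)) (fun e => h2 (congrArg Subtype.val e))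
  haveI : IsSimpleGroup (Cfsg.PSU 6 K 2) := Cfsg.Agent.Unitary.isSimpleGroup_PSU hF (by norm_num) (by omega)
  have hcenP : Subgroup.center (Cfsg.PSU 6 K 2) = ⊥ := by
    rcases (inferInstance : (Subgroup.center (Cfsg.PSU 6 K 2)).Normal).eq_bot_or_eq_top with h | h
    · exact h
    · exfalso
      have hb : isPt e1 = true ∧ isPt f1 = true ∧ orth e1 f1 = false := by decide +kernel
      have := (tau_comm_iff hK hb.1 hb.2.1).1
        ((Subgroup.mem_center_iff.1 (h ▸ Subgroup.mem_top (tau hK f1)) (tau hK e1)))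
      rw [hb.2.2] at this
      exact Bool.false_ne_true this
  have hcen : Subgroup.center H ≤ (Subgroup.zpowers d).subgroupOf H := by
    intro z hz
    have h1 : π z = 1 := by
      have hm : π z ∈ Subgroup.center (Cfsg.PSU 6 K 2) := Subgroup.mem_center_iff.2 fun k => by
        obtain ⟨k, rfl⟩ := hπ k
        rw [← map_mul, ← map_mul, Subgroup.mem_center_iff.1 hz]
      rwa [hcenP] at hm
    rw [Subgroup.mem_subgroupOf]
    rcases (hker z).1 h1 with h | h <;> rw [h]
    · exact one_mem _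
    · exact Subgroup.mem_zpowers d
  have htop : ∀ N : Subgroup H, N.Normal → ∀ x ∈ N, (x : G) ≠ 1 → (x : G) ≠ d → N = ⊤ := by
    intro N hN x hx h1 h2
    haveI := hN
    refine (Components.normal_eq_top_or_le_center hq N).resolve_right fun h => hcd x h1 h2 ?_
    have := hcen (h hx)
    rw [Subgroup.mem_subgroupOf] at this
    obtain ⟨i, hi⟩ := Subgroup.mem_zpowers_iff.1 this
    have hx' : x = dC ^ i := Subtype.ext (by rw [SubgroupClass.coe_zpow]; exact hi.symm)
    rw [hx', map_zpow, (hker dC).2 (Or.inr rfl), one_zpow]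
  have hgen : Subgroup.closure (nb (conjugatesOf d) d) = H := by
    have hle : Subgroup.closure (nb (conjugatesOf d) d) ≤ H := (Subgroup.closure_le _).2 fun y hy =>
      Subgroup.mem_centralizer_singleton_iff.2 hy.2.2.eq.symm
    have hmov : ∀ (c : H) (x : G), x ∈ nb (conjugatesOf d) d → (c : G) * x * (c : G)⁻¹ ∈ nb (conjugatesOf d) d := by
      rintro c x ⟨h1, h2, h3⟩
      refine ⟨h1.trans (isConj_iff.2 ⟨c, rfl⟩), fun h => h2 ?_, ?_⟩
      · calc x = (c : G)⁻¹ * ((c : G) * x * (c : G)⁻¹) * c := by group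
          _ = d := by rw [h, mul_assoc, ← Subgroup.mem_centralizer_singleton_iff.1 c.2, inv_mul_cancel_left]
      · have := (Commute.conj_iff (c : G)).2 h3
        rwa [hconjd c] at this
    haveI hN : ((Subgroup.closure (nb (conjugatesOf d) d)).subgroupOf H).Normal := by
      refine ⟨fun n hn c => ?_⟩
      rw [Subgroup.mem_subgroupOf] at hn ⊢
      have hsub : Subgroup.closure (nb (conjugatesOf d) d) ≤
          (Subgroup.closure (nb (conjugatesOf d) d)).comap (MulAut.conj (c : G)).toMonoidHom :=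
        (Subgroup.closure_le _).2 fun y hy => Subgroup.subset_closure (hmov c y hy)
      exact hsub hn
    have hb : isPt e1 = true := base_isPt.1
    have := htop _ hN (lift e1) (Subgroup.subset_closure (hmem e1 hb))
      (fun h => hP1 ((Subtype.ext h : lift e1 = 1) ▸ hPl e1 hb)) (hmem e1 hb).2.1
    exact le_antisymm hle (Subgroup.subgroupOf_eq_top.1 this)
  have hU : IsU6 (ModCenter H) := by
    have hceq : Subgroup.center H = (Subgroup.zpowers d).subgroupOf H := by
      refine le_antisymm hcen fun z hz => Subgroup.mem_center_iff.2 fun w => ?_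
      have hz' : π z = 1 := by
        show e (QuotientGroup.mk z) = 1
        rw [(QuotientGroup.eq_one_iff z).2 hz, map_one]
      rcases (hker z).1 hz' with rfl | rfl
      · simp
      · exact hdc w
    exact ⟨K, inferInstance, inferInstance, hK, ⟨(QuotientGroup.quotientMulEquivOfEq hceq).trans e⟩⟩
  refine ⟨hd, ⟨γ, hloc⟩, hgen, htop, hU, hcen, fun S hS hdS hdvd => ?_⟩
  have hcardH : ¬ 2 ^ 17 ∣ Nat.card H := by
    rw [Subgroup.card_eq_card_quotient_mul_card_subgroup π.ker,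
      Nat.card_congr (QuotientGroup.quotientKerEquivOfSurjective π hπ).toEquiv,
      U6Thompson.card_ker hF π hπ dC hker hdd hdC1 hdc]
    intro h
    have hp := Cfsg.Agent.Unitary.card_PSU hF (n := 6) (by norm_num)
    have hp' : 9 * Nat.card (Cfsg.PSU 6 K 2) = 82771476480 := by
      refine Eq.trans ?_ (Eq.trans hp ?_)
      · rw [show Nat.gcd 6 (2 + 1) = 3 by rfl]
        show 9 * Nat.card (Cfsg.PSU 6 K 2) = 3 * (3 * Nat.card (Cfsg.PSU 6 K 2))
        omega
      · norm_num [Finset.prod_range_succ, Nat.even_iff]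
    omega
  refine not_dvd_of_perfect hperf hdd hdC1 hdc (k := 14) hcardH (S.subgroupOf H) hdS ?_
  rwa [Nat.card_congr (Subgroup.subgroupOfEquivOfLe hS).toEquiv]

end Cfsg.Agent.TransCent22
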