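import Cfsg.Agent.TransCent22.Facts
import Cfsg.Agent.ZStar.Main
import Cfsg.Agent.Lib.Thompson.Cores
import Cfsg.Agent.TransCent22.Lift

/-!
The centraliser of the product of two commuting members of the component stabilises the component.
-/

set_option autoImplicit false
set_option linter.unusedSectionVars false

namespace Cfsg.Agent.TransCent22

open Cfsg.Agent.TT95 Cfsg.Agent.TT95.U6

variable {G : Type*} [Group G] [Finite G] {d : G} (hB : Base d)

include hB

omit [Finite G] hB in
theorem mem_centralizer_pair {a b g : G} (h1 : Commute g a) (h2 : Commute g b) :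
    g ∈ Subgroup.centralizer ({a * b} : Set G) :=
  Subgroup.mem_centralizer_singleton_iff.2 (h1.mul_right h2).eq

theorem pair_perm {e : G} (he : e ∈ nb (conjugatesOf d) d) {g : G}
    (hg : g ∈ Subgroup.centralizer ({d * e} : Set G)) (hs : g ∈ stab d) :
    (g * d * g⁻¹ = d ∧ g * e * g⁻¹ = e) ∨ (g * d * g⁻¹ = e ∧ g * e * g⁻¹ = d) := by
  have hec := comp_of_commute (comp_self d) he.1 he.2.2
  refine comp_pair_unique hB (comp_self d) hec (comp_conj hs (comp_self d)) (comp_conj hs hec) he.2.1.symm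
    he.2.2 ((Commute.conj_iff g).2 he.2.2) ?_
  rw [conj_mul, Subgroup.mem_centralizer_singleton_iff.1 hg, mul_inv_cancel_right]

/-- Odd normal data at a neighbour. -/
theorem exists_odd_part {e : G} (he : e ∈ nb (conjugatesOf d) d) :
    ∃ O : Subgroup G, O ≤ Subgroup.centralizer ({d * e} : Set G) ∧ Odd (Nat.card O) ∧
      (∀ g ∈ Subgroup.centralizer ({d * e} : Set G), ∀ o ∈ O, g * o * g⁻¹ ∈ O) ∧
      (∀ g ∈ Subgroup.centralizer ({d * e} : Set G), ∃ o ∈ O, o⁻¹ * g ∈ stab d) ∧
      ∀ o ∈ O, o ∈ stab d → o = 1 := by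
  classical
  have hec := comp_of_commute (comp_self d) he.1 he.2.2
  have hd2 : d * d = 1 := hB.sq (IsConj.refl d)
  have he2 : e * e = 1 := hB.sq he.1
  set p := d * e with hp
  set X := Subgroup.centralizer ({p} : Set G) with hX
  have hdX : d ∈ X := mem_centralizer_pair (Commute.refl d) he.2.2
  have heX : e ∈ X := mem_centralizer_pair he.2.2.symm (Commute.refl e)
  set Z : Subgroup X := (Subgroup.zpowers p).subgroupOf X with hZ
  have hmemZ : ∀ z : X, z ∈ Z ↔ (z : G) = 1 ∨ (z : G) = p := by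
    intro z
    rw [hZ, Subgroup.mem_subgroupOf]
    have hp2 : p ^ (2 : ℤ) = 1 := by
      rw [zpow_two, hp, he.2.2.symm.mul_mul_mul_comm, hd2, he2, one_mul]
    constructor
    · intro h
      obtain ⟨i, hi⟩ := Subgroup.mem_zpowers_iff.1 h
      rw [← hi]
      rcases Int.even_or_odd i with ⟨j, rfl⟩ | ⟨j, rfl⟩
      · left; rw [← two_mul, zpow_mul, hp2, one_zpow]
      · right; rw [zpow_add_one, zpow_mul, hp2, one_zpow, one_mul]
    · rintro (h | h) <;> rw [h]
      exacts [one_mem _, Subgroup.mem_zpowers p]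
  haveI hZn : Z.Normal := ⟨fun z hz g => by
    rw [hmemZ] at hz ⊢
    rcases hz with h | h
    · left; show (g : G) * z * (g : G)⁻¹ = 1; rw [h, mul_one, mul_inv_cancel]
    · right; show (g : G) * z * (g : G)⁻¹ = p
      rw [h, Subgroup.mem_centralizer_singleton_iff.1 g.2, mul_inv_cancel_right]⟩
  set u : X ⧸ Z := QuotientGroup.mk ⟨d, hdX⟩ with hu
  have hdp : d ≠ p := fun h => hB.ne_one he.1 (by
    rw [hp] at h; exact (left_eq_mul.1 h))
  have hu2 : orderOf u = 2 := by
    refine orderOf_eq_prime ?_ fun h => ?_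
    · rw [pow_two, hu, ← QuotientGroup.mk_mul, QuotientGroup.eq_one_iff, hmemZ]
      left; exact hd2
    · rw [hu, QuotientGroup.eq_one_iff, hmemZ] at h
      rcases h with h | h
      · exact hB.ne_one (IsConj.refl d) h
      · exact hdp h
  have hiso : ZStar.OddComm u := by
    intro gb
    obtain ⟨g, rfl⟩ := QuotientGroup.mk_surjective gb
    rw [hu, ← QuotientGroup.mk_inv, ← QuotientGroup.mk_inv, ← QuotientGroup.mk_mul, ← QuotientGroup.mk_mul,
      ← QuotientGroup.mk_mul]
    set r : X := ⟨d, hdX⟩ * g * (⟨d, hdX⟩ : X)⁻¹ * g⁻¹ with hr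
    rcases Nat.even_or_odd (orderOf (QuotientGroup.mk r : X ⧸ Z)) with ⟨m, hm⟩ | h
    swap
    · exact h
    exfalso
    have hpos := orderOf_pos (QuotientGroup.mk r : X ⧸ Z)
    -- the middle power
    have h1 : (r ^ m) ∉ Z := fun h => by
      have h' : (QuotientGroup.mk r : X ⧸ Z) ^ m = 1 := by
        rw [← QuotientGroup.mk_pow, QuotientGroup.eq_one_iff]; exact h
      exact pow_ne_one_of_lt_orderOf (by omega) (by omega) h'
    have h2 : (r ^ m) * (r ^ m) ∈ Z := by
      rw [← pow_add, ← hm, ← QuotientGroup.eq_one_iff, QuotientGroup.mk_pow, pow_orderOf_eq_one]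
    set x : G := (g : G) * d * (g : G)⁻¹ with hx
    have hxD : x ∈ conjugatesOf d := conj_inv d g (IsConj.refl d)
    have hrG : (r : G) = d * x := by
      simp only [hr, Subgroup.coe_mul, InvMemClass.coe_inv, inv_eq_of_mul_eq_one_right hd2, hx, mul_assoc]
    set w : G := ((r ^ m : X) : G) with hw
    have hwr : w = (d * x) ^ m := by rw [hw, SubgroupClass.coe_pow, hrG]
    have hrev : ∀ k : ℕ, d * (d * x) ^ k * d = ((d * x) ^ k)⁻¹ := fun k => by
      have : d * (d * x) * d⁻¹ = (d * x)⁻¹ := by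
        rw [mul_inv_rev, inv_eq_of_mul_eq_one_right (hB.sq hxD), inv_eq_of_mul_eq_one_right hd2,
          show d * (d * x) * d = (d * d) * x * d by group, hd2, one_mul]
      have h := conj_pow (a := d) (b := d * x) (i := k)
      rw [this, inv_eq_of_mul_eq_one_right hd2, inv_pow] at h
      exact h.symm
    have hpinv : p⁻¹ = p := by
      rw [hp, mul_inv_rev, inv_eq_of_mul_eq_one_right hd2, inv_eq_of_mul_eq_one_right he2]; exact he.2.2.symm.eq
    have hwd : d * w * d = w ∨ d * w * d = w * p := by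
      rw [hwr, hrev, ← hwr]
      rcases (hmemZ _).1 h2 with h | h
      · left
        have h' : w * w = 1 := h
        exact inv_eq_of_mul_eq_one_right h'
      · right
        have h' : w * w = p := h
        calc w⁻¹ = w * (w * w)⁻¹ := by group
          _ = w * p := by rw [h', hpinv]
    have hwp : w * p = p * w := Subgroup.mem_centralizer_singleton_iff.1 (r ^ m : X).2
    have hws : w ∈ stab d := by
      rcases hwd with h | h
      · refine centralizer_le_stab (comp_self d) (Subgroup.mem_centralizer_singleton_iff.2 ?_)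
        calc w * d = (d * d) * w * d := by rw [hd2, one_mul]
          _ = d * (d * w * d) := by group
          _ = d * w := by rw [h]
      · refine mem_stab_of (comp_self d) ?_
        have : w * d * w⁻¹ = e := by
          have e1 : w * d = d * (w * p) := by
            rw [← h]; calc w * d = (d * d) * w * d := by rw [hd2, one_mul]
              _ = _ := by group
          rw [e1, hwp, show d * (p * w) * w⁻¹ = d * p by group, hp, ← mul_assoc, hd2, one_mul]
        rw [this]
        exact hec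
    -- the conjugate between
    have hconj : d * w ∈ conjugatesOf d ∧ ∃ h : G, h ∈ X ∧ h * d * h⁻¹ = d * w := by
      suffices h : ∃ h : G, h ∈ X ∧ h * d * h⁻¹ = d * w from
        ⟨isConj_iff.2 (h.imp fun _ h => h.2), h⟩
      have hrX : d * x ∈ X := hrG ▸ r.2
      have hmove : ∀ k : ℕ, ((d * x) ^ k)⁻¹ * d * (d * x) ^ k = d * (d * x) ^ (2 * k) := fun k => by
        rw [← hrev, two_mul, pow_add, show d * (d * x) ^ k * d * d * (d * x) ^ k =
          d * (d * x) ^ k * (d * d) * (d * x) ^ k by group, hd2, mul_one, mul_assoc]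
      rcases Nat.even_or_odd m with ⟨k, hk⟩ | ⟨k, hk⟩
      · refine ⟨((d * x) ^ k)⁻¹, inv_mem (pow_mem hrX k), ?_⟩
        rw [inv_inv, hmove, two_mul, ← hk, hwr]
      · refine ⟨((d * x) ^ k)⁻¹ * g, mul_mem (inv_mem (pow_mem hrX k)) g.2, ?_⟩
        rw [show ((d * x) ^ k)⁻¹ * (g : G) * d * (((d * x) ^ k)⁻¹ * (g : G))⁻¹ =
          ((d * x) ^ k)⁻¹ * x * (d * x) ^ k by rw [hx]; group]
        have hxd : x = d * (d * x) := by rw [← mul_assoc, hd2, one_mul]
        calc ((d * x) ^ k)⁻¹ * x * (d * x) ^ k = ((d * x) ^ k)⁻¹ * (d * (d * x)) * (d * x) ^ k := by rw [← hxd]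
          _ = ((d * x) ^ k)⁻¹ * d * ((d * x) * (d * x) ^ k) := by simp only [mul_assoc]
          _ = ((d * x) ^ k)⁻¹ * d * ((d * x) ^ k * (d * x)) := by rw [(Commute.self_pow (d * x) k).eq]
          _ = ((d * x) ^ k)⁻¹ * d * (d * x) ^ k * (d * x) := by simp only [mul_assoc]
          _ = d * w := by rw [hmove, mul_assoc, ← pow_succ, ← hk, hwr]
    obtain ⟨hxD', h, hhX, hh⟩ := hconj
    have hx's : d * w ∈ stab d := mul_mem (comp_le_stab (comp_self d)) hws
    have hx'c := comp_of_mem_stab hB hxD' hx's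
    obtain ⟨c1, c2⟩ := comp_centralize_two hB (comp_self d) hec hx'c he.2.1.symm he.2.2
      (Subgroup.mem_centralizer_singleton_iff.1 (mul_mem hdX (r ^ m : X).2) : Commute (d * w) (d * e))
    by_cases e1 : d * w = d
    · exact h1 ((hmemZ _).2 (Or.inl (mul_eq_left.1 e1)))
    by_cases e2 : d * w = e
    · refine h1 ((hmemZ _).2 (Or.inr ?_))
      show w = p
      rw [hp, ← e2, ← mul_assoc, hd2, one_mul]
    refine comp_three_notMem hB hx'c (comp_self d) hec e1 e2 he.2.1.symm c1 c2 he.2.2 ?_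
    have : d * w * d * e = h * e * h⁻¹ := by
      have hpe : e = d * p := by rw [hp, ← mul_assoc, hd2, one_mul]
      conv_rhs => rw [hpe, conj_mul.symm, hh, Subgroup.mem_centralizer_singleton_iff.1 hhX, mul_inv_cancel_right]
      rw [hp, ← mul_assoc]
    rw [this]
    exact conj_inv d h he.1
  obtain ⟨N, hNn, hNodd, hN⟩ := ZStar.zStar hu2 hiso
  set P0 : Subgroup X := N.comap (QuotientGroup.mk' Z)
  set O : Subgroup G := (pPrimeCore 2 X).map X.subtype with hO
  have hOle : O ≤ X := Subgroup.map_subtype_le _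
  have hOn : ∀ g ∈ X, ∀ o ∈ O, g * o * g⁻¹ ∈ O := by
    rintro g hg _ ⟨o, ho, rfl⟩
    exact ⟨⟨g, hg⟩ * o * ⟨g, hg⟩⁻¹, Thompson.instPPrimeCoreNormal.conj_mem o ho _, rfl⟩
  have hOodd : Odd (Nat.card O) := by
    rw [hO, Subgroup.card_map_of_injective X.subtype_injective]
    exact Nat.coprime_two_right.1 Thompson.card_pPrimeCore_coprime
  refine ⟨O, hOle, hOodd, hOn, ?_, ?_⟩
  · intro g hg
    -- the conjugate differs from `d` or `e` by an odd element
    haveI := hNn
    have hZc : ∀ z ∈ Z, ∀ y : X, z * y = y * z := fun z hz y => by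
      refine Subtype.ext ?_
      rcases (hmemZ z).1 hz with h | h <;> show (z : G) * y = y * z <;> rw [h]
      · simp
      · exact (Subgroup.mem_centralizer_singleton_iff.1 y.2).symm
    have hZsq : ∀ z ∈ Z, z * z = 1 := fun z hz => by
      refine Subtype.ext ?_
      rcases (hmemZ z).1 hz with h | h <;> show (z : G) * z = 1 <;> rw [h]
      · simp
      · rw [hp, he.2.2.symm.mul_mul_mul_comm, hd2, he2, one_mul]
    set x : G := g * d * g⁻¹ with hx
    have hxD : x ∈ conjugatesOf d := conj_inv d g (IsConj.refl d)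
    have hxX : x ∈ X := mul_mem (mul_mem hg hdX) (inv_mem hg)
    set y : X := ⟨d, hdX⟩ * ⟨x, hxX⟩ with hy
    have hyN : (QuotientGroup.mk y : X ⧸ Z) ∈ N := by
      have := hN (QuotientGroup.mk (⟨g, hg⟩ : X))
      rw [hu, ← QuotientGroup.mk_inv, ← QuotientGroup.mk_inv, ← QuotientGroup.mk_mul, ← QuotientGroup.mk_mul,
        ← QuotientGroup.mk_mul] at this
      rwa [show (⟨d, hdX⟩ * ⟨g, hg⟩ * (⟨d, hdX⟩ : X)⁻¹ * (⟨g, hg⟩ : X)⁻¹) = y from Subtype.ext (by
        show d * g * d⁻¹ * g⁻¹ = d * x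
        rw [inv_eq_of_mul_eq_one_right hd2, hx]; group)] at this
    obtain ⟨z, hz, hzy⟩ := exists_mul_mem_core Z hZc hZsq N hNodd hyN
    set o : G := (z : G) * (d * x) with ho
    have hoO : o ∈ O := ⟨_, hzy, rfl⟩
    -- `d` inverts `o`, which is a square
    obtain ⟨k, hk⟩ := hOodd
    have hpow : o ^ (2 * k + 1) = 1 := by
      rw [← hk]; exact congrArg Subtype.val (pow_card_eq_one' (x := (⟨o, hoO⟩ : O)))
    have hinv : d * o * d = o⁻¹ := by
      have hzd : (z : G) * d = d * (z : G) := congrArg Subtype.val (hZc z hz ⟨d, hdX⟩)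
      have hzx : (z : G) * (x * d) = x * d * z := congrArg Subtype.val (hZc z hz (⟨x, hxX⟩ * ⟨d, hdX⟩))
      have hzi : (z : G)⁻¹ = z := inv_eq_of_mul_eq_one_right (congrArg Subtype.val (hZsq z hz))
      calc d * o * d = d * z * d * x * d := by rw [ho]; group
        _ = z * (d * d) * x * d := by rw [← hzd]; group
        _ = o⁻¹ := by
          rw [hd2, mul_one, ho, mul_inv_rev, mul_inv_rev, inv_eq_of_mul_eq_one_right (hB.sq hxD),
            inv_eq_of_mul_eq_one_right hd2, hzi, mul_assoc, hzx]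
    set o1 := o ^ (k + 1)
    have ho1 : o1 * o1 = o := by
      rw [← pow_add, show k + 1 + (k + 1) = 2 * k + 1 + 1 by ring, pow_succ, hpow, one_mul]
    have hinv1 : o1⁻¹ * d * o1 = d * o := by
      have hci := conj_pow (a := d) (b := o) (i := k + 1)
      rw [inv_eq_of_mul_eq_one_right hd2, hinv, inv_pow] at hci
      rw [show o1⁻¹ = d * o1 * d from hci, ← ho1,
        show d * o1 * d * d * o1 = d * o1 * (d * d) * o1 by group, hd2, mul_one, mul_assoc]
    refine ⟨o1⁻¹, inv_mem (pow_mem hoO _), ?_⟩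
    rw [inv_inv]
    -- the product maps `d` into the component
    refine stab_of_conj hB (comp_self d) ?_
    rw [show o1 * g * d * (o1 * g)⁻¹ = o1 * x * o1⁻¹ by rw [hx]; group,
      show x = d * ((z : G)⁻¹ * o) by rw [ho, inv_mul_cancel_left, ← mul_assoc, hd2, one_mul]]
    have hzs : (z : G)⁻¹ ∈ stab d := by
      rcases (hmemZ z).1 hz with h | h <;> rw [h]
      · exact inv_mem (one_mem _)
      · exact inv_mem (mul_mem (comp_le_stab (comp_self d)) (comp_le_stab hec))
    have hzo : (z : G)⁻¹ * o1 = o1 * (z : G)⁻¹ :=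
      congrArg Subtype.val (hZc z⁻¹ (inv_mem hz) ⟨o1, pow_mem (hOle hoO) _⟩)
    have hzd' : (z : G)⁻¹ * d = d * (z : G)⁻¹ :=
      congrArg Subtype.val (hZc z⁻¹ (inv_mem hz) ⟨d, hdX⟩)
    have : o1 * (d * ((z : G)⁻¹ * o)) * o1⁻¹ = d * (z : G)⁻¹ := by
      calc o1 * (d * ((z : G)⁻¹ * o)) * o1⁻¹ = o1 * (d * (z : G)⁻¹) * o * o1⁻¹ := by group
        _ = o1 * (z : G)⁻¹ * (d * o) * o1⁻¹ := by rw [← hzd']; group
        _ = (z : G)⁻¹ * o1 * (o1⁻¹ * d * o1) * o1⁻¹ := by rw [hzo, hinv1]
        _ = (z : G)⁻¹ * d := by group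
        _ = _ := hzd'
    rw [this]
    exact mul_mem (comp_le_stab (comp_self d)) hzs
  · intro o ho hs
    have hoX := hOle ho
    have hd : o * d * o⁻¹ = d ∧ o * e * o⁻¹ = e := by
      rcases pair_perm hB he hoX hs with h | h
      · exact h
      · exfalso
        obtain ⟨k, hk⟩ := hOodd
        have hpow : o ^ (2 * k + 1) = 1 := by
          rw [← hk]; exact congrArg Subtype.val (pow_card_eq_one' (x := (⟨o, ho⟩ : O)))
        have h2 : ∀ i, o ^ (2 * i) * d * (o ^ (2 * i))⁻¹ = d := fun i => by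
          induction i with
          | zero => simp
          | succ i ih =>
            rw [show 2 * (i + 1) = 2 * i + 1 + 1 by ring, pow_succ, pow_succ,
              show o ^ (2 * i) * o * o * d * (o ^ (2 * i) * o * o)⁻¹ =
                o ^ (2 * i) * (o * (o * d * o⁻¹) * o⁻¹) * (o ^ (2 * i))⁻¹ by group, h.1, h.2, ih]
        have := h2 (k + 1)
        rw [show 2 * (k + 1) = 2 * k + 1 + 1 by ring, pow_succ, hpow, one_mul, h.1] at this
        exact he.2.1 this
    have hOx : Odd (Nat.card (O ⊓ Subgroup.centralizer ({d} : Set G) : Subgroup G)) :=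
      Odd.of_dvd_nat hOodd (Subgroup.card_dvd_of_le inf_le_left)
    have := odd_normal_trivial hB he (O ⊓ Subgroup.centralizer ({d} : Set G)) hOx
      (fun n hn => by
        have h1 : Commute n d := Subgroup.mem_centralizer_singleton_iff.1 hn.2
        refine ⟨h1, ?_⟩
        have h2 : Commute n p := Subgroup.mem_centralizer_singleton_iff.1 (hOle hn.1)
        have h3 := h1.mul_right h2
        rwa [hp, ← mul_assoc, hd2, one_mul] at h3)
      (fun g h1 h2 n hn => ⟨hOn g (mem_centralizer_pair h1 h2) n hn.1,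
        Subgroup.mem_centralizer_singleton_iff.2
          ((h1.mul_left (Subgroup.mem_centralizer_singleton_iff.1 hn.2)).mul_left h1.inv_left).eq⟩)
    have ho' : o ∈ (⊥ : Subgroup G) := this ▸ ⟨ho,
      Subgroup.mem_centralizer_singleton_iff.2 (mul_inv_eq_iff_eq_mul.1 hd.1)⟩
    exact Subgroup.mem_bot.1 ho'

end Cfsg.Agent.TransCent22
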