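import Cfsg.Agent.TransCent22.Pair

/-!
The odd parts at all neighbours agree, hence vanish: pair centralisers stabilise the component.
-/

set_option autoImplicit false
set_option linter.unusedSectionVars false

namespace Cfsg.Agent.TransCent22

open Cfsg.Agent.TT95 Cfsg.Agent.TT95.U6

variable {G : Type*} [Group G] [Finite G] {d : G} (hB : Base d)

include hB

/-- An involution without fixed points on an odd subgroup it normalises inverts it. -/
theorem inverts_of_free {O : Subgroup G} {f : G} (hf : f * f = 1) (hn : ∀ o ∈ O, f * o * f ∈ O)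
    (hfree : ∀ o ∈ O, f * o * f = o → o = 1) {o : G} (ho : o ∈ O) : f * o * f = o⁻¹ := by
  let ψ : O → O := fun y => ⟨(y : G)⁻¹ * (f * y * f), mul_mem (inv_mem y.2) (hn y y.2)⟩
  have hψ : Function.Injective ψ := by
    rintro ⟨a, ha⟩ ⟨b, hb⟩ h
    have h' : a⁻¹ * (f * a * f) = b⁻¹ * (f * b * f) := congrArg Subtype.val h
    refine Subtype.ext (mul_inv_eq_one.1 (hfree (a * b⁻¹) (mul_mem ha (inv_mem hb)) ?_) :)
    have hfi : f⁻¹ = f := inv_eq_of_mul_eq_one_right hf
    calc f * (a * b⁻¹) * f = (f * a * f) * (f * b * f)⁻¹ := by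
          rw [mul_inv_rev, mul_inv_rev, hfi,
            show f * a * f * (f * (b⁻¹ * f)) = f * a * (f * f) * (b⁻¹ * f) by group, hf, mul_one]
          group
      _ = a * (a⁻¹ * (f * a * f)) * (f * b * f)⁻¹ := by group
      _ = a * b⁻¹ := by rw [h']; group
  obtain ⟨y, hy⟩ := (Finite.injective_iff_surjective.1 hψ) ⟨o, ho⟩
  have h' : (y : G)⁻¹ * (f * y * f) = o := congrArg Subtype.val hy
  rw [← h', mul_inv_rev, inv_inv, mul_inv_rev, mul_inv_rev, inv_eq_of_mul_eq_one_right hf]
  calc f * ((y : G)⁻¹ * (f * y * f)) * f = f * (y : G)⁻¹ * f * y * (f * f) := by group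
    _ = f * ((y : G)⁻¹ * f) * y := by rw [hf, mul_one]; group

theorem centralizer_base {e : G} (he : e ∈ nb (conjugatesOf d) d) :
    Subgroup.centralizer ({d * e} : Set G) ≤ stab d := by
  have hec := comp_of_commute (comp_self d) he.1 he.2.2
  have hd2 : d * d = 1 := hB.sq (IsConj.refl d)
  choose! O hOle hOodd hOn hOdec hOfree using fun (f : G) (hf : f ∈ nb (conjugatesOf d) d) => exists_odd_part hB hf
  have hdX : ∀ f ∈ nb (conjugatesOf d) d, d ∈ Subgroup.centralizer ({d * f} : Set G) := fun f hf =>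
    mem_centralizer_pair (Commute.refl d) hf.2.2
  -- members fixing the pair invert
  have hinv : ∀ f ∈ nb (conjugatesOf d) d, ∀ g ∈ conjugatesOf d, g ∈ comp d → Commute g d → Commute g f →
      ∀ o ∈ O f, g * o * g = o⁻¹ := by
    intro f hf g hg hgc h1 h2 o ho
    have hgi : g⁻¹ = g := hB.inv_eq hg
    refine inverts_of_free hB (hB.sq hg) (fun o ho => ?_) (fun o ho h => ?_) ho
    · have := hOn f hf g (mem_centralizer_pair h1 h2) o ho
      rwa [hgi] at this
    · refine hOfree f hf o ho (centralizer_le_stab hgc (Subgroup.mem_centralizer_singleton_iff.2 ?_))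
      calc o * g = g * o * g * g := by rw [h]
        _ = g * o := by rw [mul_assoc _ g g, hB.sq hg, mul_one]
  have hle : ∀ f h : G, f ∈ nb (conjugatesOf d) d → h ∈ nb (conjugatesOf d) d → Commute h f → O f ≤ O h := by
    intro f h hf hh hc y hy
    have hhc := comp_of_commute (comp_self d) hh.1 hh.2.2
    have hdy := hinv f hf d (IsConj.refl d) (comp_self d) (Commute.refl d) hf.2.2 y hy
    have hhy := hinv f hf h hh.1 hhc hh.2.2.symm hc y hy
    have hhi : h⁻¹ = h := hB.inv_eq hh.1
    have hdi : d⁻¹ = d := inv_eq_of_mul_eq_one_right hd2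
    have hyX : y ∈ Subgroup.centralizer ({d * h} : Set G) := by
      refine Subgroup.mem_centralizer_singleton_iff.2 ?_
      have h1 : h * y⁻¹ * h = y := by
        have := congrArg (fun z => z⁻¹) hhy
        simpa [mul_inv_rev, hhi, mul_assoc] using this
      have e1 : d * h * y * (h * d) = y := by
        calc d * h * y * (h * d) = d * (h * y * h) * d := by group
          _ = (d * y * d)⁻¹ := by rw [hhy, mul_inv_rev, mul_inv_rev, hdi, mul_assoc]
          _ = y := by rw [hdy, inv_inv]
      calc y * (d * h) = d * h * y * (h * d) * (d * h) := by rw [e1]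
        _ = d * h * y * (h * (d * d) * h) := by group
        _ = d * h * y := by rw [hd2, mul_one, hB.sq hh.1, mul_one]
    obtain ⟨o, ho, hs⟩ := hOdec h hh y hyX
    set s := o⁻¹ * y with hsdef
    have hys : y = o * s := by rw [hsdef, mul_inv_cancel_left]
    have hdo := hinv h hh d (IsConj.refl d) (comp_self d) (Commute.refl d) hh.2.2 o ho
    have hds : d * s * d ∈ stab d :=
      mul_mem (mul_mem (comp_le_stab (comp_self d)) hs) (comp_le_stab (comp_self d))
    have hsX : s ∈ Subgroup.centralizer ({d * h} : Set G) := mul_mem (inv_mem (hOle h hh ho)) hyX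
    -- `o` and `s` commute
    have e2 : d * s * d = o * (s⁻¹ * o⁻¹) := by
      calc d * s * d = (d * o * d)⁻¹ * (d * y * d) := by
            rw [hys, mul_inv_rev, mul_inv_rev, hdi]
            simp only [mul_assoc]
            rw [← mul_assoc d d (o * (s * d)), hd2, one_mul, inv_mul_cancel_left]
        _ = o * (s⁻¹ * o⁻¹) := by rw [hdo, hdy, hys, inv_inv, mul_inv_rev]
    have hcomm : o * (s⁻¹ * o⁻¹) * s = 1 := by
      refine hOfree h hh _ ?_ (e2 ▸ mul_mem hds hs)
      have := mul_mem ho (hOn h hh s⁻¹ (inv_mem hsX) o⁻¹ (inv_mem ho))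
      rwa [inv_inv, show o * (s⁻¹ * o⁻¹ * s) = o * (s⁻¹ * o⁻¹) * s by group] at this
    have e4 : d * s * d = s⁻¹ := by rw [e2]; exact eq_inv_of_mul_eq_one_left hcomm
    have hos : Commute o s := by
      have h' : o * (s⁻¹ * o⁻¹) = s⁻¹ := eq_inv_of_mul_eq_one_left hcomm
      have : o * s⁻¹ = s⁻¹ * o := by
        calc o * s⁻¹ = o * (s⁻¹ * o⁻¹) * o := by group
          _ = s⁻¹ * o := by rw [h']
      exact (Commute.inv_right_iff.1 this)
    obtain ⟨k, hk⟩ := hOodd f hf
    obtain ⟨l, hl⟩ := hOodd h hh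
    have hy1 : y ^ (2 * k + 1) = 1 := by
      rw [← hk]; exact congrArg Subtype.val (pow_card_eq_one' (x := (⟨y, hy⟩ : O f)))
    have ho1 : o ^ (2 * l + 1) = 1 := by
      rw [← hl]; exact congrArg Subtype.val (pow_card_eq_one' (x := (⟨o, ho⟩ : O h)))
    have hs1 : s ^ ((2 * k + 1) * (2 * l + 1)) = 1 := by
      have h' : y ^ ((2 * k + 1) * (2 * l + 1)) = 1 := by rw [pow_mul, hy1, one_pow]
      rw [hys, hos.mul_pow, mul_comm, pow_mul, ho1, one_pow, one_mul] at h'
      rwa [mul_comm]
    obtain ⟨n, hn⟩ : Odd ((2 * k + 1) * (2 * l + 1)) := Odd.mul ⟨k, rfl⟩ ⟨l, rfl⟩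
    rw [hn] at hs1
    -- so `s` fixes `d`
    have hsd : s * d * s⁻¹ = d := by
      rcases pair_perm hB hh hsX hs with h' | h'
      · exact h'.1
      · exfalso
        have h2 : ∀ i, s ^ (2 * i) * d * (s ^ (2 * i))⁻¹ = d := fun i => by
          induction i with
          | zero => simp
          | succ i ih =>
            rw [show 2 * (i + 1) = 2 * i + 1 + 1 by ring, pow_succ, pow_succ,
              show s ^ (2 * i) * s * s * d * (s ^ (2 * i) * s * s)⁻¹ =
                s ^ (2 * i) * (s * (s * d * s⁻¹) * s⁻¹) * (s ^ (2 * i))⁻¹ by group, h'.1, h'.2, ih]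
        have := h2 (n + 1)
        rw [show 2 * (n + 1) = 2 * n + 1 + 1 by ring, pow_succ, hs1, one_mul, h'.1] at this
        exact hh.2.1 this
    have hss : s * s = 1 := by
      have h' : d * s * d = s := by
        rw [show d * s = s * d by exact (mul_inv_eq_iff_eq_mul.1 hsd).symm, mul_assoc, hd2, mul_one]
      rw [e4] at h'
      calc s * s = s⁻¹ * s := by rw [h']
        _ = 1 := inv_mul_cancel s
    have hs0 : s = 1 := by
      rw [pow_succ, pow_mul, pow_two, hss, one_pow, one_mul] at hs1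
      exact hs1
    rw [hys, hs0, mul_one]
    exact ho
  -- all parts agree
  have hall : ∀ f ∈ nb (conjugatesOf d) d, O f = O e := by
    intro f hf
    have hsame : ∀ u v : G, u ∈ nb (conjugatesOf d) d → v ∈ nb (conjugatesOf d) d → Commute u v → O u = O v :=
      fun u v hu hv h => le_antisymm (hle u v hu hv h.symm) (hle v u hv hu h)
    by_cases hef : Commute e f
    · exact hsame f e hf he hef.symm
    · obtain ⟨γ, hγ, g1, g4⟩ := local_nonperp hB.locSys (IsConj.refl d) he hf hef
      obtain ⟨b1, b2, -, b4, -⟩ := base_isPt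
      have h1 : Commute (γ e2) e := g1 ▸ (hγ.comm e2 e1 b2 b1).2 basic_check.1
      have h4 : Commute (γ e2) f := g4 ▸ (hγ.comm e2 f1 b2 b4).2 basic_check.2.1
      exact (hsame f _ hf (hγ.mem e2 b2) h4.symm).trans (hsame _ e (hγ.mem e2 b2) he h1)
  set C := Subgroup.centralizer ({d} : Set G) with hC
  -- the whole centraliser normalises
  have hnorm : C ≤ Subgroup.normalizer (O e : Set G) := by
    rw [hC, ← hB.gen, Subgroup.closure_le]
    intro f hf
    have hfX : f ∈ Subgroup.centralizer ({d * f} : Set G) := mem_centralizer_pair hf.2.2.symm (Commute.refl f)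
    refine Subgroup.mem_normalizer_iff.2 fun o => ?_
    rw [← hall f hf]
    refine ⟨hOn f hf f hfX o, fun h => ?_⟩
    have := hOn f hf f⁻¹ (inv_mem hfX) _ h
    rwa [show f⁻¹ * (f * o * f⁻¹) * f⁻¹⁻¹ = o by group] at this
  set N : Subgroup C := (Subgroup.centralizer (O e : Set G)).subgroupOf C with hN
  have hNn : N.Normal := ⟨fun n hn c => by
    rw [hN, Subgroup.mem_subgroupOf] at hn ⊢
    refine Subgroup.mem_centralizer_iff.2 fun o ho => ?_
    have hc := hnorm c.2
    have ho' : (c : G)⁻¹ * o * c ∈ O e := by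
      have := (Subgroup.mem_normalizer_iff.1 (inv_mem hc) o).1 ho
      simpa using this
    have h := Subgroup.mem_centralizer_iff.1 hn _ ho'
    show o * ((c : G) * n * (c : G)⁻¹) = (c : G) * n * (c : G)⁻¹ * o
    calc o * ((c : G) * n * (c : G)⁻¹) = c * ((c : G)⁻¹ * o * c * n) * (c : G)⁻¹ := by group
      _ = c * (n * ((c : G)⁻¹ * o * c)) * (c : G)⁻¹ := by rw [h]
      _ = _ := by group⟩
  have hmem : d * e ∈ C := mul_mem (Subgroup.mem_centralizer_singleton_iff.2 rfl)
    (Subgroup.mem_centralizer_singleton_iff.2 he.2.2.eq.symm)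
  have heinv : ∀ o ∈ O e, d * o * d = o⁻¹ ∧ e * o * e = o⁻¹ := fun o ho =>
    ⟨hinv e he d (IsConj.refl d) (comp_self d) (Commute.refl d) he.2.2 o ho,
      hinv e he e he.1 hec he.2.2.symm (Commute.refl e) o ho⟩
  have hdeN : (⟨d * e, hmem⟩ : C) ∈ N := by
    rw [hN, Subgroup.mem_subgroupOf]
    refine Subgroup.mem_centralizer_iff.2 fun o ho => ?_
    exact (Subgroup.mem_centralizer_singleton_iff.1 (hOle e he ho))
  have hNtop := hB.top N hNn ⟨d * e, hmem⟩ hdeN
    (fun h => he.2.1 (by rw [eq_inv_of_mul_eq_one_right h, inv_eq_of_mul_eq_one_right hd2]))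
    (fun h => hB.ne_one he.1 (mul_eq_left.1 h))
  intro g hg
  obtain ⟨o, ho, hs⟩ := hOdec e he g hg
  have hdN : (⟨d, Subgroup.mem_centralizer_singleton_iff.2 rfl⟩ : C) ∈ N := hNtop ▸ Subgroup.mem_top _
  rw [hN, Subgroup.mem_subgroupOf] at hdN
  have hod : o * d = d * o := Subgroup.mem_centralizer_iff.1 hdN o ho
  have hoo : o * o = 1 := by
    have := (heinv o ho).1
    rw [← hod, mul_assoc, hd2, mul_one] at this
    calc o * o = o⁻¹ * o := by rw [← this]
      _ = 1 := inv_mul_cancel o
  have ho1 := not_two_of_odd hB (hOodd e he) ho hoo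
  rwa [ho1, inv_one, one_mul] at hs

theorem pair_centralizer {a b : G} (ha : a ∈ comp d) (hb : b ∈ comp d) (hne : a ≠ b) (hab : Commute a b) :
    Subgroup.centralizer ({a * b} : Set G) ≤ stab d := by
  obtain ⟨m, hm, rfl⟩ := exists_stab_conj ha
  intro g hg
  set e := m⁻¹ * b * m with he'
  have he : e ∈ nb (conjugatesOf d) d := by
    refine ⟨by simpa [he'] using conj_inv d m⁻¹ (comp_sub hb), fun h => hne ?_, (Commute.conj_iff m).1 ?_⟩
    · rw [he'] at h
      calc m * d * m⁻¹ = m * (m⁻¹ * b * m) * m⁻¹ := by rw [h]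
        _ = b := by group
    · rwa [show m * (m⁻¹ * b * m) * m⁻¹ = b by group]
  have h1 : m⁻¹ * g * m ∈ Subgroup.centralizer ({d * e} : Set G) := by
    refine Subgroup.mem_centralizer_singleton_iff.2 ?_
    have h := Subgroup.mem_centralizer_singleton_iff.1 hg
    calc m⁻¹ * g * m * (d * e) = m⁻¹ * (g * (m * d * m⁻¹ * b)) * m := by rw [he']; group
      _ = m⁻¹ * (m * d * m⁻¹ * b * g) * m := by rw [h]
      _ = d * e * (m⁻¹ * g * m) := by rw [he']; group
  simpa [mul_assoc] using mul_mem (mul_mem hm (centralizer_base hB he h1)) (inv_mem hm)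

end Cfsg.Agent.TransCent22
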