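import Cfsg.Agent.TransCent22.Component
import Cfsg.Agent.TransCent22.CheckPair

/-!
The centraliser of a transposition and one of its neighbours has no odd normal subgroup.
-/

set_option autoImplicit false
set_option linter.unusedSectionVars false

namespace Cfsg.Agent.TransCent22

open Cfsg.Agent.TT95 Cfsg.Agent.TT95.U6

variable {G : Type*} [Group G] {d : G} (hB : Base d)

include hB

theorem Base.inv_eq {x : G} (hx : x ∈ conjugatesOf d) : x⁻¹ = x := inv_eq_of_mul_eq_one_right (hB.sq hx)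

theorem Base.centralizer_nb {a : G} (ha : a ∈ conjugatesOf d) {g x : G}
    (hg : g ∈ Subgroup.centralizer ({a} : Set G)) (hx : x ∈ nb (conjugatesOf d) a) :
    g * x * g⁻¹ ∈ nb (conjugatesOf d) a := by
  have := (nb_iff hB.locSys g a x).2 hx
  rwa [show g * a * g⁻¹ = a by rw [Subgroup.mem_centralizer_singleton_iff.1 hg, mul_inv_cancel_right]] at this

theorem not_two_of_odd {N : Subgroup G} (hN : Odd (Nat.card N)) {g : G} (hg : g ∈ N) (h2 : g * g = 1) :
    g = 1 := by
  have h1 : orderOf g ∣ 2 := orderOf_dvd_of_pow_eq_one (by rw [pow_two, h2])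
  have h3 : orderOf g ∣ Nat.card N := Subgroup.orderOf_dvd_natCard N hg
  exact orderOf_eq_one_iff.1 (Nat.eq_one_of_dvd_coprimes hN.coprime_two_right h3 h1)

theorem odd_normal_trivial {e : G} (he : e ∈ nb (conjugatesOf d) d) (N : Subgroup G)
    (hN : Odd (Nat.card N)) (hle : ∀ n ∈ N, Commute n d ∧ Commute n e)
    (hnorm : ∀ g, Commute g d → Commute g e → ∀ n ∈ N, g * n * g⁻¹ ∈ N) : N = ⊥ := by
  have hS := hB.locSys
  obtain ⟨γ, hγ, g1⟩ := local_one hS (IsConj.refl d) he
  obtain ⟨b1, b2, -, b4, -⟩ := base_isPt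
  have hperp : ∀ z, isPt z = true → orth z e1 = true → Commute (γ z) d ∧ Commute (γ z) e := fun z hz h =>
    ⟨(hγ.mem z hz).2.2.symm, g1 ▸ (hγ.comm z e1 hz b1).2 h⟩
  -- every element fixes the neighbours orthogonal to `e`
  have hfix : ∀ n ∈ N, ∀ z, isPt z = true → orth z e1 = true → n * γ z * n⁻¹ = γ z := by
    intro n hn z hz hze
    by_cases hz1 : z = e1
    · subst hz1
      rw [g1, (hle n hn).2.eq, mul_inv_cancel_right]
    obtain ⟨g, hδ, hgz, hgfix⟩ := local_move hS hγ b2 (orbit_perp (mem_pts.2 hz) hze hz1)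
    set δ : ℕ → G := fun p => g * γ p * g⁻¹ with hδdef
    have hδ1 : δ e1 = e := (hgfix e1 b1 (fun _ _ h => h)).trans g1
    have hδ2 : δ e2 = γ z := hgz
    obtain ⟨hc1, hc2⟩ := hle n hn
    have hw := hB.centralizer_nb (IsConj.refl d) (Subgroup.mem_centralizer_singleton_iff.2 hc1.eq)
      (hδ.mem e2 b2)
    obtain ⟨w, hw', hwe⟩ := hδ.surj _ hw
    rw [← hδ2, ← hwe]
    have hN1 : δ w * δ e2 ∈ N := by
      rw [hwe, show n * δ e2 * n⁻¹ * δ e2 = n * (δ e2 * n⁻¹ * (δ e2)⁻¹) by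
        rw [hB.inv_eq (hδ.mem e2 b2).1]; group]
      refine mul_mem hn (hnorm _ (hδ.mem e2 b2).2.2.symm ?_ _ (inv_mem hn))
      rw [← hδ1]
      exact (hδ.comm e2 e1 b2 b1).2 basic_check.1
    have hwe1 : orth w e1 = true := (hδ.comm w e1 hw' b1).1 (by
      rw [hwe, hδ1]
      have h := (Commute.conj_iff n).2 ((hδ.comm e2 e1 b2 b1).2 basic_check.1)
      rwa [hδ1, show n * e * n⁻¹ = e by rw [hc2.eq, mul_inv_cancel_right]] at h)
    by_contra hne
    have hno : orth w e2 = false := Bool.eq_false_iff.2 fun h => hne (by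
      have hc := (hδ.comm w e2 hw' b2).2 h
      have := not_two_of_odd hB hN hN1 (by
        rw [hc.symm.mul_mul_mul_comm, hB.sq (hδ.mem w hw').1, hB.sq (hδ.mem e2 b2).1, one_mul])
      rw [eq_inv_of_mul_eq_one_left this, hB.inv_eq (hδ.mem e2 b2).1])
    have hperpδ : ∀ x, isPt x = true → orth x e1 = true → Commute (δ x) d ∧ Commute (δ x) e := fun x hx h =>
      ⟨(hδ.mem x hx).2.2.symm, hδ1 ▸ (hδ.comm x e1 hx b1).2 h⟩
    have hstep : ∀ x u, isPt x = true → orth x e1 = true → orth x e2 = true → isPt u = true →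
        δ u * δ e2 ∈ N → δ (tv x u) * δ e2 ∈ N := by
      intro x u hx hxe hx2 hu h
      have h' := hnorm _ (hperpδ x hx hxe).1 (hperpδ x hx hxe).2 _ h
      rwa [show δ x * (δ u * δ e2) * (δ x)⁻¹ = δ x * δ u * (δ x)⁻¹ * (δ x * δ e2 * (δ x)⁻¹) by group,
        hδ.conj x u hx hu, ((hδ.comm x e2 hx b2).2 hx2).eq, mul_inv_cancel_right] at h'
    have hc := allP_iff.1 split_check w (mem_pts.2 hw')
    rw [hwe1, hno, Bool.not_true, Bool.false_or, Bool.false_or, List.any_eq_true] at hc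
    obtain ⟨x, hx, hc⟩ := hc
    simp only [Bool.and_eq_true, List.any_eq_true] at hc
    obtain ⟨⟨hxe, hx2⟩, y, hy, hc⟩ := hc
    simp only [Bool.and_eq_true, Bool.not_eq_true'] at hc
    obtain ⟨⟨⟨hye, hy2⟩, hor⟩, hne'⟩ := hc
    replace hx := mem_pts.1 hx
    replace hy := mem_pts.1 hy
    have hu := hδ.isPt_tv x w hx hw'
    have hv := hδ.isPt_tv y _ hy hu
    have hN2 := hstep y _ hy hye hy2 hu (hstep x w hx hxe hx2 hw' hN1)
    set v := tv y (tv x w)
    have h3 : δ v * δ w ∈ N := by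
      have := mul_mem hN2 (inv_mem hN1)
      rwa [mul_inv_rev, hB.inv_eq (hδ.mem e2 b2).1, hB.inv_eq (hδ.mem w hw').1,
        show δ v * δ e2 * (δ e2 * δ w) = δ v * (δ e2 * δ e2) * δ w by group,
        hB.sq (hδ.mem e2 b2).1, mul_one] at this
    have h4 := not_two_of_odd hB hN h3 (by
      rw [((hδ.comm v w hv hw').2 hor).symm.mul_mul_mul_comm, hB.sq (hδ.mem v hv).1, hB.sq (hδ.mem w hw').1, one_mul])
    have h5 : v = w := hδ.inj v w hv hw' (by rw [eq_inv_of_mul_eq_one_left h4, hB.inv_eq (hδ.mem w hw').1])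
    rw [h5, Nat.beq_refl] at hne'
    exact Bool.noConfusion hne'
  rw [eq_bot_iff]
  intro n hn
  rw [Subgroup.mem_bot]
  -- squares fix every neighbour
  have hsq : ∀ m ∈ N, ∀ c ∈ nb (conjugatesOf d) d, (m * m) * c * (m * m)⁻¹ = c := by
    intro m hm c hc
    by_cases hec : Commute e c
    · obtain ⟨z, hz, hzc⟩ := hγ.surj c hc
      have hze : orth z e1 = true := (hγ.comm z e1 hz b1).1 (by rw [hzc, g1]; exact hec.symm)
      rw [← hzc, hfix _ (mul_mem hm hm) z hz hze]
    obtain ⟨δ, hδ, d1, d4⟩ := local_nonperp hS (IsConj.refl d) he hc hec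
    have hfixδ : ∀ z, isPt z = true → orth z e1 = true → m * δ z * m⁻¹ = δ z := by
      intro z hz hze
      obtain ⟨y, hy, hyz⟩ := hγ.surj _ (hδ.mem z hz)
      rw [← hyz]
      refine hfix m hm y hy ((hγ.comm y e1 hy b1).1 ?_)
      rw [hyz, g1, ← d1]
      exact (hδ.comm z e1 hz b1).2 hze
    obtain ⟨hc1, hc2⟩ := hle m hm
    obtain ⟨q, hq, hqc⟩ := hδ.surj _ (hB.centralizer_nb (IsConj.refl d)
      (Subgroup.mem_centralizer_singleton_iff.2 hc1.eq) (hδ.mem f1 b4))
    have hqe : orth q e1 = false := Bool.eq_false_iff.2 fun h => hec (by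
      have h' := (hδ.comm q e1 hq b1).2 h
      rw [hqc, d1, d4] at h'
      rw [show e = m * e * m⁻¹ by rw [hc2.eq, mul_inv_cancel_right]] at h'
      exact ((Commute.conj_iff m).1 h').symm)
    have hor : ∀ z, isPt z = true → orth z e1 = true → orth z q = orth z f1 := by
      intro z hz hze
      rw [Bool.eq_iff_iff, ← hδ.comm z q hz hq, ← hδ.comm z f1 hz b4, hqc]
      conv_lhs => rw [← hfixδ z hz hze]
      exact Commute.conj_iff m
    have h := allP_iff.1 twin_check q (mem_pts.2 hq)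
    rw [hqe, Bool.false_or, Bool.or_eq_true, Bool.or_eq_true] at h
    rcases h with (h | h) | h
    · rw [Nat.eq_of_beq_eq_true h, d4] at hqc
      rw [show m * m * c * (m * m)⁻¹ = m * (m * c * m⁻¹) * m⁻¹ by group, ← hqc, ← hqc]
    · have hce : m * c * m⁻¹ = e * c * e⁻¹ := by
        rw [← d4, ← hqc, Nat.eq_of_beq_eq_true h, ← hδ.conj e1 f1 b1 b4, d1, d4]
      rw [show m * m * c * (m * m)⁻¹ = m * (m * c * m⁻¹) * m⁻¹ by group, hce,
        show m * (e * c * e⁻¹) * m⁻¹ = (m * e * m⁻¹) * (m * c * m⁻¹) * (m * e * m⁻¹)⁻¹ by group,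
        show m * e * m⁻¹ = e by rw [hc2.eq, mul_inv_cancel_right], hce,
        hB.inv_eq he.1, show e * (e * c * e) * e = (e * e) * c * (e * e) by group, hB.sq he.1, one_mul, mul_one]
    · exfalso
      rw [List.any_eq_true] at h
      obtain ⟨z, hz, h⟩ := h
      rw [Bool.and_eq_true] at h
      rw [hor z (mem_pts.1 hz) h.1, Bool.xor_self] at h
      exact Bool.noConfusion h.2
  obtain ⟨k, hk⟩ := hN
  have hord : n ^ (2 * k + 1) = 1 := by
    rw [← hk]
    exact congrArg Subtype.val (pow_card_eq_one' (x := (⟨n, hn⟩ : N)))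
  have hn2 : n = n ^ (k + 1) * n ^ (k + 1) := by
    rw [← pow_add, show k + 1 + (k + 1) = 2 * k + 1 + 1 by ring, pow_succ, hord, one_mul]
  have hall : Subgroup.closure (nb (conjugatesOf d) d) ≤ Subgroup.centralizer ({n} : Set G) := by
    refine (Subgroup.closure_le _).2 fun c hc => Subgroup.mem_centralizer_singleton_iff.2 ?_
    have h := hsq _ (pow_mem hn (k + 1)) c hc
    rw [← hn2, mul_inv_eq_iff_eq_mul] at h
    exact h.symm
  rw [hB.gen] at hall
  have hnC : n ∈ Subgroup.centralizer ({d} : Set G) := Subgroup.mem_centralizer_singleton_iff.2 (hle n hn).1.eq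
  have := hB.cen (show (⟨n, hnC⟩ : Subgroup.centralizer ({d} : Set G)) ∈ Subgroup.center _ from
    Subgroup.mem_center_iff.2 fun w => Subtype.ext (Subgroup.mem_centralizer_singleton_iff.1 (hall w.2)))
  rw [Subgroup.mem_subgroupOf] at this
  obtain ⟨i, hi⟩ := Subgroup.mem_zpowers_iff.1 this
  refine not_two_of_odd hB ⟨k, hk⟩ hn ?_
  rw [show n = d ^ i from hi.symm]
  rw [← (Commute.refl d).mul_zpow, hB.sq (IsConj.refl d), one_zpow]

end Cfsg.Agent.TransCent22
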