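import Cfsg.Agent.TransCent22.PairCent
import Cfsg.Agent.S5439

/-!
Products of three commuting members, and the stabiliser of the component is the whole group.
-/

set_option autoImplicit false
set_option linter.unusedSectionVars false

namespace Cfsg.Agent.TransCent22

open Cfsg.Agent.TT95 Cfsg.Agent.TT95.U6

variable {G : Type*} [Group G] [Finite G] {d : G} (hB : Base d)

/-- Three different pairwise commuting members of the component. -/
structure Tri (d a b c : G) : Prop where
  ha : a ∈ comp d
  hb : b ∈ comp d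
  hc : c ∈ comp d
  ne : a ≠ b ∧ a ≠ c ∧ b ≠ c
  ab : Commute a b
  ac : Commute a c
  bc : Commute b c

include hB

theorem comp_classify {g : G} (hs : g ∈ stab d) (h2 : g * g = 1) (h1 : g ≠ 1) :
    g ∈ comp d ∨ (∃ x y, x ∈ comp d ∧ y ∈ comp d ∧ x ≠ y ∧ Commute x y ∧ x * y = g) ∨
      ∃ a b c, Tri d a b c ∧ a * b * c = g := by
  haveI := hB.gen_inst
  obtain ⟨m, m1, m3, hm⟩ := involution_isProd hB.cfg hB.core (g := (⟨g, hs⟩ : stab d)) (Subtype.ext h2)
    (fun h => h1 (congrArg Subtype.val h))
  interval_cases m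
  · exact Or.inl ((isProd_one hB.cfg).1 hm)
  · obtain ⟨x, y, hx, hy, hne, hxy, e⟩ := isProd_two hB.cfg hm
    exact Or.inr (Or.inl ⟨x, y, hx, hy, fun h => hne (Subtype.ext h), congrArg Subtype.val hxy.eq,
      congrArg Subtype.val e⟩)
  · obtain ⟨a, b, c, ha, hb, hc, hne, hab, hac, hbc, e⟩ := isProd_three hB.cfg hm
    exact Or.inr (Or.inr ⟨a, b, c, ⟨ha, hb, hc, ⟨fun h => hne.1 (Subtype.ext h), fun h => hne.2.1 (Subtype.ext h),
      fun h => hne.2.2 (Subtype.ext h)⟩, congrArg Subtype.val hab.eq, congrArg Subtype.val hac.eq,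
      congrArg Subtype.val hbc.eq⟩, congrArg Subtype.val e⟩)

theorem pair_notMem {x y : G} (hx : x ∈ comp d) (hy : y ∈ comp d) (hne : x ≠ y) (hxy : Commute x y) :
    x * y ∉ conjugatesOf d := by
  intro h
  haveI := hB.gen_inst
  have hs := mul_mem (comp_le_stab hx) (comp_le_stab hy)
  exact no_pair hB.cfg (p := ⟨x, comp_le_stab hx⟩) (q := ⟨y, comp_le_stab hy⟩) (s := ⟨x * y, hs⟩) hx hy
    (comp_of_mem_stab hB h hs) (fun e => hne (congrArg Subtype.val e)) (Subtype.ext hxy.eq) rfl

theorem pair_conj {x y p q : G} (hx : x ∈ comp d) (hy : y ∈ comp d) (hne : x ≠ y) (hxy : Commute x y)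
    (hp : p ∈ comp d) (hq : q ∈ comp d) (hne' : p ≠ q) (hpq : Commute p q) :
    ∃ k ∈ stab d, k * (x * y) * k⁻¹ = p * q := by
  haveI := hB.gen_inst
  set X : stab d := ⟨x, comp_le_stab hx⟩
  set Y : stab d := ⟨y, comp_le_stab hy⟩
  set P : stab d := ⟨p, comp_le_stab hp⟩
  set Q : stab d := ⟨q, comp_le_stab hq⟩
  obtain ⟨k, hk⟩ := isConj_iff.1 (isProd_conj hB.cfg (m := 2) (x := X * Y) (y := P * Q) (by norm_num) (by norm_num)
    ⟨[X, Y], by simpa using fun e => hne (congrArg Subtype.val e), rfl, by simp [compIn, X, Y, hx, hy],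
      by simp [show Commute X Y from Subtype.ext hxy.eq, (show Commute X Y from Subtype.ext hxy.eq).symm],
      by simp⟩
    ⟨[P, Q], by simpa using fun e => hne' (congrArg Subtype.val e), rfl, by simp [compIn, P, Q, hp, hq],
      by simp [show Commute P Q from Subtype.ext hpq.eq, (show Commute P Q from Subtype.ext hpq.eq).symm],
      by simp⟩)
  exact ⟨k, k.2, congrArg Subtype.val hk⟩

theorem triple_ne_pair {a b c x y : G} (h : Tri d a b c) (hx : x ∈ comp d) (hy : y ∈ comp d) (hne : x ≠ y)
    (hxy : Commute x y) (g : G) : g * (x * y) * g⁻¹ ≠ a * b * c := by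
  intro e
  haveI := hB.gen_inst
  set p := g * x * g⁻¹ with hp
  set q := g * y * g⁻¹ with hq
  have hac : ∀ w, (w = a ∨ w = b ∨ w = c) → Commute w (a * b * c) := by
    rintro w (rfl | rfl | rfl)
    · exact ((Commute.refl w).mul_right h.ab).mul_right h.ac
    · exact (h.ab.symm.mul_right (Commute.refl w)).mul_right h.bc
    · exact (h.ac.symm.mul_right h.bc.symm).mul_right (Commute.refl w)
  have h1 : g⁻¹ * a * g ∈ Subgroup.centralizer ({x * y} : Set G) := by
    refine Subgroup.mem_centralizer_singleton_iff.2 ?_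
    have h' := (hac a (Or.inl rfl)).eq
    rw [← e] at h'
    calc g⁻¹ * a * g * (x * y) = g⁻¹ * (a * (g * (x * y) * g⁻¹)) * g := by group
      _ = g⁻¹ * (g * (x * y) * g⁻¹ * a) * g := by rw [h']
      _ = x * y * (g⁻¹ * a * g) := by group
  have hD : g⁻¹ * a * g ∈ conjugatesOf d := by simpa using conj_inv d g⁻¹ (comp_sub h.ha)
  have hcc := comp_of_mem_stab hB hD (pair_centralizer hB hx hy hne hxy h1)
  obtain ⟨c1, c2⟩ := comp_centralize_two hB hx hy hcc hne hxy
    (Subgroup.mem_centralizer_singleton_iff.1 h1 : Commute (g⁻¹ * a * g) (x * y))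
  have hpc : ∀ w, Commute (g⁻¹ * a * g) w → Commute a (g * w * g⁻¹) := fun w hw => by
    have := (Commute.conj_iff g).2 hw
    rwa [show g * (g⁻¹ * a * g) * g⁻¹ = a by group] at this
  have hpcomp : p ∈ comp d := comp_of_commute h.ha (conj_inv d g (comp_sub hx)) (hpc x c1)
  have hqcomp : q ∈ comp d := comp_of_commute h.ha (conj_inv d g (comp_sub hy)) (hpc y c2)
  have epq : p * q = a * b * c := by rw [← e, hp, hq]; group
  set P : stab d := ⟨p, comp_le_stab hpcomp⟩
  set Q : stab d := ⟨q, comp_le_stab hqcomp⟩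
  set A : stab d := ⟨a, comp_le_stab h.ha⟩
  set B : stab d := ⟨b, comp_le_stab h.hb⟩
  set C : stab d := ⟨c, comp_le_stab h.hc⟩
  have hPQ : Commute P Q := Subtype.ext ((Commute.conj_iff g).2 hxy).eq
  refine two_ne_three hB.cfg (x := A * B * C)
    ⟨[P, Q], ?_, rfl, by simp [compIn, P, Q, hpcomp, hqcomp], by simp [hPQ, hPQ.symm],
      by simp only [List.prod_cons, List.prod_nil, mul_one]; exact Subtype.ext epq⟩
    ⟨[A, B, C], ?_, rfl, by simp [compIn, A, B, C, h.ha, h.hb, h.hc], ?_, by simp [mul_assoc]⟩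
  · simpa [P, Q, Subtype.ext_iff, hp, hq] using hne
  · simp [A, B, C, Subtype.ext_iff, h.ne.1, h.ne.2.1, h.ne.2.2]
  · have c1 : Commute A B := Subtype.ext h.ab.eq
    have c2 : Commute A C := Subtype.ext h.ac.eq
    have c3 : Commute B C := Subtype.ext h.bc.eq
    simp [c1, c2, c3, c1.symm, c2.symm, c3.symm]

theorem stab_of_pair {x y g : G} (hx : x ∈ comp d) (hy : y ∈ comp d) (hne : x ≠ y) (hxy : Commute x y)
    (hg : g * (x * y) * g⁻¹ ∈ stab d) :
    g ∈ stab d ∧ ∃ p q, p ∈ comp d ∧ q ∈ comp d ∧ p ≠ q ∧ Commute p q ∧ p * q = g * (x * y) * g⁻¹ := by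
  have hsq : (x * y) * (x * y) = 1 := by
    rw [hxy.symm.mul_mul_mul_comm, hB.sq (comp_sub hx), hB.sq (comp_sub hy), one_mul]
  have h1 : x * y ≠ 1 := fun h => hne (by rw [eq_inv_of_mul_eq_one_left h, hB.inv_eq (comp_sub hy)])
  rcases comp_classify hB hg (by rw [conj_mul, hsq, mul_one, mul_inv_cancel])
    (fun h => h1 (conj_eq_one_iff.1 h)) with h | ⟨p, q, hp, hq, hne', hpq, e⟩ | ⟨a, b, c, h, e⟩
  · refine absurd ?_ (pair_notMem hB hx hy hne hxy)
    have := conj_inv d g⁻¹ (comp_sub h)
    rwa [show g⁻¹ * (g * (x * y) * g⁻¹) * g⁻¹⁻¹ = x * y by group] at this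
  · refine ⟨?_, p, q, hp, hq, hne', hpq, e⟩
    obtain ⟨k, hk, hk'⟩ := pair_conj hB hp hq hne' hpq hx hy hne hxy
    have : k * g ∈ Subgroup.centralizer ({x * y} : Set G) := by
      refine Subgroup.mem_centralizer_singleton_iff.2 (mul_inv_eq_iff_eq_mul.1 ?_)
      calc k * g * (x * y) * (k * g)⁻¹ = k * (g * (x * y) * g⁻¹) * k⁻¹ := by group
        _ = x * y := by rw [← e, hk']
    simpa using mul_mem (inv_mem hk) (pair_centralizer hB hx hy hne hxy this)
  · exact absurd e.symm (triple_ne_pair hB h hx hy hne hxy g)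

omit hB [Finite G] in
theorem coset_fix_iff (H : Subgroup G) (x g : G) : x • (g : G ⧸ H) = (g : G ⧸ H) ↔ g⁻¹ * x * g ∈ H := by
  rw [MulAction.Quotient.smul_coe, eq_comm, QuotientGroup.eq, smul_eq_mul, mul_assoc]

theorem pair_left {a u w : G} (ha : a ∈ comp d) (hu : u ∈ comp d) (hw : w ∈ comp d) (hne : u ≠ w)
    (huw : Commute u w) (h : a = u ∨ a = w) :
    Subgroup.centralizer ({a * (u * w)} : Set G) ≤ stab d := by
  rcases h with rfl | rfl
  · rw [← mul_assoc, hB.sq (comp_sub hu), one_mul]
    exact centralizer_le_stab hw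
  · rw [huw.eq, ← mul_assoc, hB.sq (comp_sub hw), one_mul]
    exact centralizer_le_stab hu

theorem triple_centralizer {a b c : G} (h : Tri d a b c) :
    Subgroup.centralizer ({a * b * c} : Set G) ≤ stab d := by
  haveI := hB.gen_inst
  obtain ⟨X', Y', Z', hX', hY', hZ', nxy, nxz, nyz, cxy, cxz, cyz, nxa, nxb, nxc, e, huniq⟩ :=
    partner hB.cfg (a := ⟨a, comp_le_stab h.ha⟩) (b := ⟨b, comp_le_stab h.hb⟩) (c := ⟨c, comp_le_stab h.hc⟩)
      h.ha h.hb h.hc ⟨fun e => h.ne.1 (congrArg Subtype.val e), fun e => h.ne.2.1 (congrArg Subtype.val e),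
        fun e => h.ne.2.2 (congrArg Subtype.val e)⟩ (Subtype.ext h.ab.eq) (Subtype.ext h.ac.eq) (Subtype.ext h.bc.eq)
  set x : G := (X' : G)
  set y : G := (Y' : G)
  set z : G := (Z' : G)
  have hxyz : Tri d x y z := ⟨hX', hY', hZ', ⟨fun e => nxy (Subtype.ext e), fun e => nxz (Subtype.ext e),
    fun e => nyz (Subtype.ext e)⟩, congrArg Subtype.val cxy.eq, congrArg Subtype.val cxz.eq,
    congrArg Subtype.val cyz.eq⟩
  set v := a * b * c with hv
  have ev : v = x * y * z := congrArg Subtype.val e
  -- the decompositions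
  have hdec : ∀ {p q r : G}, Tri d p q r → p * q * r = v →
      (∀ t, (t = p ∨ t = q ∨ t = r) ↔ (t = a ∨ t = b ∨ t = c)) ∨
      (∀ t, (t = p ∨ t = q ∨ t = r) ↔ (t = x ∨ t = y ∨ t = z)) := by
    intro p q r hT hpqr
    have hmem : ∀ t, (t = p ∨ t = q ∨ t = r) ∨ (t = a ∨ t = b ∨ t = c) ∨ (t = x ∨ t = y ∨ t = z) → t ∈ stab d := by
      rintro t ((rfl | rfl | rfl) | (rfl | rfl | rfl) | (rfl | rfl | rfl))
      exacts [comp_le_stab hT.ha, comp_le_stab hT.hb, comp_le_stab hT.hc, comp_le_stab h.ha, comp_le_stab h.hb,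
        comp_le_stab h.hc, X'.2, Y'.2, Z'.2]
    rcases huniq ⟨p, comp_le_stab hT.ha⟩ ⟨q, comp_le_stab hT.hb⟩ ⟨r, comp_le_stab hT.hc⟩ hT.ha hT.hb hT.hc
      ⟨fun e => hT.ne.1 (congrArg Subtype.val e), fun e => hT.ne.2.1 (congrArg Subtype.val e),
        fun e => hT.ne.2.2 (congrArg Subtype.val e)⟩ (Subtype.ext hT.ab.eq) (Subtype.ext hT.ac.eq)
      (Subtype.ext hT.bc.eq) (Subtype.ext hpqr) with hh | hh
    · left
      intro t
      by_cases ht : t ∈ stab d
      · simpa [Subtype.ext_iff] using hh ⟨t, ht⟩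
      · exact ⟨fun h' => absurd (hmem t (Or.inl h')) ht, fun h' => absurd (hmem t (Or.inr (Or.inl h'))) ht⟩
    · right
      intro t
      by_cases ht : t ∈ stab d
      · simpa [Subtype.ext_iff] using hh ⟨t, ht⟩
      · exact ⟨fun h' => absurd (hmem t (Or.inl h')) ht, fun h' => absurd (hmem t (Or.inr (Or.inr h'))) ht⟩
  have hxne : x ≠ a ∧ x ≠ b ∧ x ≠ c :=
    ⟨fun e => nxa (Subtype.ext e), fun e => nxb (Subtype.ext e), fun e => nxc (Subtype.ext e)⟩
  have cxv : Commute x v := ev ▸ ((Commute.refl x).mul_right hxyz.ab).mul_right hxyz.ac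
  have cav : Commute a v := ((Commute.refl a).mul_right h.ab).mul_right h.ac
  have hax : Commute a x := by
    have := (ThreeTransp.centralize_three hB.ttSet.1 (a := ⟨a, comp_le_stab h.ha⟩) (b := ⟨b, comp_le_stab h.hb⟩)
      (c := ⟨c, comp_le_stab h.hc⟩) (e := X') h.ha h.hb h.hc hX'
      (fun e => h.ne.1 (congrArg Subtype.val e)) (fun e => h.ne.2.1 (congrArg Subtype.val e))
      (fun e => h.ne.2.2 (congrArg Subtype.val e)) (Subtype.ext h.ab.eq) (Subtype.ext h.ac.eq)
      (Subtype.ext h.bc.eq)).1 (Subtype.ext cxv.eq)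
    exact congrArg Subtype.val this.1.symm.eq
  set X := Subgroup.centralizer ({v} : Set G) with hX
  have haX : a ∈ X := Subgroup.mem_centralizer_singleton_iff.2 cav.eq
  have hxX : x ∈ X := Subgroup.mem_centralizer_singleton_iff.2 cxv.eq
  have hd2 : ∀ {w : G}, w ∈ comp d → w * w = 1 := fun hw => hB.sq (comp_sub hw)
  -- members of the orbit of `a` in the stabiliser
  have horb : ∀ l ∈ X, l ∈ stab d → l * a * l⁻¹ = a ∨ l * a * l⁻¹ = b ∨ l * a * l⁻¹ = c ∨
      l * a * l⁻¹ = x ∨ l * a * l⁻¹ = y ∨ l * a * l⁻¹ = z := by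
    intro l hl hls
    have hT : Tri d (l * a * l⁻¹) (l * b * l⁻¹) (l * c * l⁻¹) :=
      ⟨comp_conj hls h.ha, comp_conj hls h.hb, comp_conj hls h.hc,
        ⟨fun e => h.ne.1 (mul_left_cancel (mul_right_cancel e)), fun e => h.ne.2.1 (mul_left_cancel (mul_right_cancel e)),
          fun e => h.ne.2.2 (mul_left_cancel (mul_right_cancel e))⟩,
        (Commute.conj_iff l).2 h.ab, (Commute.conj_iff l).2 h.ac, (Commute.conj_iff l).2 h.bc⟩
    have he : l * a * l⁻¹ * (l * b * l⁻¹) * (l * c * l⁻¹) = v := by
      rw [show l * a * l⁻¹ * (l * b * l⁻¹) * (l * c * l⁻¹) = l * v * l⁻¹ by rw [hv]; group,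
        Subgroup.mem_centralizer_singleton_iff.1 hl, mul_inv_cancel_right]
    rcases hdec hT he with hh | hh
    · rcases (hh _).1 (Or.inl rfl) with e | e | e <;> simp [e]
    · rcases (hh _).1 (Or.inl rfl) with e | e | e <;> simp [e]
  have hmain : (stab d).subgroupOf X = ⊤ := by
    set A : X := ⟨a, haX⟩
    set P : X := ⟨a * x, mul_mem haX hxX⟩
    have hA2 : orderOf A = 2 := by
      refine orderOf_eq_prime (by rw [pow_two]; exact Subtype.ext (hd2 h.ha)) fun e => ?_
      exact hB.ne_one (comp_sub h.ha) (congrArg Subtype.val e)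
    have hP2 : orderOf P = 2 := by
      refine orderOf_eq_prime ?_ fun e => ?_
      · rw [pow_two]
        refine Subtype.ext ?_
        show a * x * (a * x) = 1
        rw [hax.symm.mul_mul_mul_comm, hd2 h.ha, hd2 hX', one_mul]
      · have e' : a * x = 1 := congrArg Subtype.val e
        exact hxne.1 (by rw [eq_inv_of_mul_eq_one_right e', hB.inv_eq (comp_sub h.ha)])
    refine S5439.result {w | IsConj A w} {w | IsConj P w} A P hA2 hP2 rfl rfl ?_ _ ?_ ?_
    · intro e
      have hP : P ∈ {w | IsConj A w} := e.symm ▸ IsConj.refl P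
      obtain ⟨k, hk⟩ := isConj_iff.1 hP
      refine pair_notMem hB h.ha hX' hxne.1.symm hax ?_
      rw [show a * (X' : G) = (k : G) * a * (k : G)⁻¹ from (congrArg Subtype.val hk).symm]
      exact conj_inv d _ (comp_sub h.ha)
    · intro w hw
      obtain ⟨k, rfl | rfl⟩ : ∃ k : X, w = k * A * k⁻¹ ∨ w = k * P * k⁻¹ := by
        rcases hw with hw | hw <;> obtain ⟨k, hk⟩ := isConj_iff.1 (hw : IsConj _ w)
        exacts [⟨k, Or.inl hk.symm⟩, ⟨k, Or.inr hk.symm⟩]
      all_goals
        refine ⟨(k : X ⧸ (stab d).subgroupOf X), ?_, ?_⟩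
        · simp only
          rw [coset_fix_iff, Subgroup.mem_subgroupOf]
          simp only [Subgroup.coe_mul, InvMemClass.coe_inv]
          group
          first | exact comp_le_stab h.ha | exact mul_mem (comp_le_stab h.ha) (comp_le_stab hX')
        · intro q hq
          obtain ⟨g, rfl⟩ := QuotientGroup.mk_surjective q
          rw [coset_fix_iff, Subgroup.mem_subgroupOf] at hq
          simp only [Subgroup.coe_mul, InvMemClass.coe_inv] at hq
          rw [QuotientGroup.eq, Subgroup.mem_subgroupOf]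
          simp only [Subgroup.coe_mul, InvMemClass.coe_inv]
          first
            | exact stab_of_conj hB h.ha (by simpa [mul_assoc] using hq)
            | exact (stab_of_pair hB h.ha hX' hxne.1.symm hax (by simpa [mul_assoc, P, x] using hq)).1
    · intro w hw hwH w' hw' hwH' hne hcomm
      obtain ⟨k, rfl⟩ := isConj_iff.1 (hw : IsConj A w)
      rw [Subgroup.mem_subgroupOf] at hwH hwH'
      have hks : (k : G) ∈ stab d := stab_of_conj hB h.ha hwH
      set a' : G := (k : G) * a * (k : G)⁻¹ with ha'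
      have ha'c : a' ∈ comp d := comp_conj hks h.ha
      intro g hg
      rw [Subgroup.mem_subgroupOf]
      have hg' : (g : G) * (a' * w') = a' * w' * g :=
        congrArg Subtype.val (Subgroup.mem_centralizer_singleton_iff.1 hg)
      have hcom : a' * w' = w' * a' := congrArg Subtype.val hcomm
      rcases hw' with hw' | hw'
      · obtain ⟨l, rfl⟩ := isConj_iff.1 (hw' : IsConj A w')
        refine pair_centralizer hB ha'c (comp_conj (stab_of_conj hB h.ha hwH') h.ha) (fun e => hne (Subtype.ext e))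
          hcom (Subgroup.mem_centralizer_singleton_iff.2 hg')
      · obtain ⟨l, rfl⟩ := isConj_iff.1 (hw' : IsConj P w')
        have hls : (l : G) ∈ stab d := (stab_of_pair hB h.ha hX' hxne.1.symm hax hwH').1
        set u : G := (l : G) * a * (l : G)⁻¹ with hu
        set w0 : G := (l : G) * x * (l : G)⁻¹ with hw0
        have huw : ((l * P * l⁻¹ : X) : G) = u * w0 := by
          show (l : G) * (a * x) * (l : G)⁻¹ = u * w0
          rw [hu, hw0]; group
        rw [huw] at hg' hcom
        have huc : u ∈ comp d := comp_conj hls h.ha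
        have hwc : w0 ∈ comp d := comp_conj hls hX'
        have hne' : u ≠ w0 := fun e => hxne.1.symm (mul_left_cancel (mul_right_cancel e))
        have hcw : Commute u w0 := (Commute.conj_iff _).2 hax
        have hmem : (g : G) ∈ Subgroup.centralizer ({a' * (u * w0)} : Set G) :=
          Subgroup.mem_centralizer_singleton_iff.2 hg'
        by_cases hin : a' = u ∨ a' = w0
        · exact pair_left hB ha'c huc hwc hne' hcw hin hmem
        push Not at hin
        obtain ⟨c1, c2⟩ := comp_centralize_two hB huc hwc ha'c hne' hcw hcom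
        -- back to the standard cross pair
        set a'' : G := (l : G)⁻¹ * a' * l with ha''
        have hcc : ∀ t : G, Commute a' ((l : G) * t * (l : G)⁻¹) → Commute a'' t := fun t ht => by
          have := (Commute.conj_iff (l : G)⁻¹).2 ht
          rwa [show (l : G)⁻¹ * ((l : G) * t * (l : G)⁻¹) * (l : G)⁻¹⁻¹ = t by group, inv_inv] at this
        have c1' := hcc a c1
        have c2' := hcc x c2
        have hn1 : a'' ≠ a := fun e => hin.1 (by rw [hu, ← e, ha'']; group)
        have hn2 : a'' ≠ x := fun e => hin.2 (by rw [hw0, ← e, ha'']; group)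
        have hgv : Commute (g : G) v := Subgroup.mem_centralizer_singleton_iff.1 g.2
        have hlv : (l : G) * v * (l : G)⁻¹ = v := by
          rw [Subgroup.mem_centralizer_singleton_iff.1 l.2, mul_inv_cancel_right]
        have horb' := horb ((l : G)⁻¹ * k) (mul_mem (inv_mem l.2) k.2) (mul_mem (inv_mem hls) hks)
        rw [show (l : G)⁻¹ * k * a * ((l : G)⁻¹ * k)⁻¹ = a'' by rw [ha'', ha']; group] at horb'
        -- the product with `v` is a pair
        obtain ⟨p, q, hp, hq, hpq, hc', hprod⟩ : ∃ p q, p ∈ comp d ∧ q ∈ comp d ∧ p ≠ q ∧ Commute p q ∧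
            a'' * (a * x) * v = p * q := by
          have hv2 : a'' * (a * x) * v = a'' * x * (b * c) := by
            rw [hax.eq, hv, show a'' * (x * a) * (a * b * c) = a'' * x * (a * a) * (b * c) by group, hd2 h.ha,
              mul_one]
          have cxb : Commute x b ∧ Commute x c := by
            have := (ThreeTransp.centralize_three hB.ttSet.1 (a := ⟨a, comp_le_stab h.ha⟩) (b := ⟨b, comp_le_stab h.hb⟩)
              (c := ⟨c, comp_le_stab h.hc⟩) (e := X') h.ha h.hb h.hc hX'
              (fun e => h.ne.1 (congrArg Subtype.val e)) (fun e => h.ne.2.1 (congrArg Subtype.val e))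
              (fun e => h.ne.2.2 (congrArg Subtype.val e)) (Subtype.ext h.ab.eq) (Subtype.ext h.ac.eq)
              (Subtype.ext h.bc.eq)).1 (Subtype.ext cxv.eq)
            exact ⟨congrArg Subtype.val this.2.1.eq, congrArg Subtype.val this.2.2.eq⟩
          have hbc' : b * c = a * (x * y * z) := by
            rw [← ev, hv, ← mul_assoc, ← mul_assoc, hd2 h.ha, one_mul]
          rcases horb' with e | e | e | e | e | e
          · exact absurd e hn1
          · refine ⟨x, c, hX', h.hc, hxne.2.2, cxb.2, ?_⟩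
            rw [hv2, e, show b * x * (b * c) = x * (b * b) * c by
              rw [show b * x = x * b from cxb.1.symm.eq]; group, hd2 h.hb, mul_one]
          · refine ⟨x, b, hX', h.hb, hxne.2.1, cxb.1, ?_⟩
            rw [hv2, e, h.bc.eq, show c * x * (c * b) = x * (c * c) * b by
              rw [show c * x = x * c from cxb.2.symm.eq]; group, hd2 h.hc, mul_one]
          · exact absurd e hn2
          · have haz : Commute a z ∧ z ≠ a := by
              refine ⟨?_, fun e' => ?_⟩
              · exact ((ThreeTransp.centralize_three hB.ttSet.1 (a := X') (b := Y') (c := Z')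
                  (e := ⟨a, comp_le_stab h.ha⟩) hX' hY' hZ' h.ha nxy nxz nyz cxy cxz cyz).1
                    (Subtype.ext (ev ▸ cav).eq)).2.2.eq |> congrArg Subtype.val
              · have h' : x * y = b * c := by
                  have : x * y * z = z * (b * c) := by rw [← ev, hv, e']; group
                  rw [show z * (b * c) = b * c * z by
                    rw [e']; exact (h.ab.mul_right h.ac).eq] at this
                  exact mul_right_cancel this
                rcases comp_pair_unique hB h.hb h.hc hX' hY' h.ne.2.2 h.bc hxyz.ab h'.symm with ⟨e1, -⟩ | ⟨e1, -⟩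
                · exact hxne.2.1 e1
                · exact hxne.2.2 e1
            refine ⟨z, a, hZ', h.ha, haz.2, haz.1.symm, ?_⟩
            rw [hv2, hbc', e, haz.1.symm.eq]
            calc y * x * (a * (x * y * z)) = a * (y * (x * x) * y * z) := by
                  rw [show y * x * (a * (x * y * z)) = y * x * a * (x * y * z) by group,
                    show y * x * a = a * (y * x) from ((show Commute y a from c1'.symm.symm |> fun h' => e ▸ h').mul_left hax.symm).eq]
                  group
              _ = a * z := by rw [hd2 hX', mul_one, hd2 hY', one_mul]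
          · have hay : Commute a y ∧ y ≠ a := by
              refine ⟨?_, fun e' => ?_⟩
              · exact ((ThreeTransp.centralize_three hB.ttSet.1 (a := X') (b := Y') (c := Z')
                  (e := ⟨a, comp_le_stab h.ha⟩) hX' hY' hZ' h.ha nxy nxz nyz cxy cxz cyz).1
                    (Subtype.ext (ev ▸ cav).eq)).2.1.eq |> congrArg Subtype.val
              · have h' : x * z = b * c := by
                  have : y * (x * z) = y * (b * c) := by
                    rw [← mul_assoc, hxyz.ab.symm.eq, ← ev, hv, e']; group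
                  exact mul_left_cancel this
                rcases comp_pair_unique hB h.hb h.hc hX' hZ' h.ne.2.2 h.bc hxyz.ac h'.symm with ⟨e1, -⟩ | ⟨e1, -⟩
                · exact hxne.2.1 e1
                · exact hxne.2.2 e1
            refine ⟨y, a, hY', h.ha, hay.2, hay.1.symm, ?_⟩
            rw [hv2, hbc', e, hay.1.symm.eq]
            calc z * x * (a * (x * y * z)) = a * (z * (x * x) * (y * z)) := by
                  rw [show z * x * (a * (x * y * z)) = z * x * a * (x * y * z) by group,
                    show z * x * a = a * (z * x) from ((show Commute z a from e ▸ c1').mul_left hax.symm).eq]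
                  group
              _ = a * y := by
                rw [hd2 hX', mul_one, show z * (y * z) = z * z * y by rw [hxyz.bc.eq, mul_assoc], hd2 hZ', one_mul]
        -- centralise the moved pair
        have hg2 : Commute (g : G) ((l : G) * (p * q) * (l : G)⁻¹) := by
          rw [← hprod, show (l : G) * (a'' * (a * x) * v) * (l : G)⁻¹ =
            a' * (u * w0) * ((l : G) * v * (l : G)⁻¹) by rw [ha'', hu, hw0]; group, hlv]
          exact (show Commute (g : G) (a' * (u * w0)) from hg').mul_right hgv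
        rw [show (l : G) * (p * q) * (l : G)⁻¹ = (l : G) * p * (l : G)⁻¹ * ((l : G) * q * (l : G)⁻¹) by group] at hg2
        exact pair_centralizer hB (comp_conj hls hp) (comp_conj hls hq)
          (fun e => hpq (mul_left_cancel (mul_right_cancel e))) ((Commute.conj_iff _).2 hc')
          (Subgroup.mem_centralizer_singleton_iff.2 hg2.eq)
  exact Subgroup.subgroupOf_eq_top.1 hmain

theorem stab_eq_top : stab d = ⊤ := by
  obtain ⟨γ, hγ⟩ := hB.loc
  have he := hγ.mem e1 base_isPt.1
  set e := γ e1
  have hec := comp_of_commute (comp_self d) he.1 he.2.2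
  have hp2 : orderOf (d * e) = 2 := by
    refine orderOf_eq_prime ?_ fun h => ?_
    · rw [pow_two, he.2.2.symm.mul_mul_mul_comm, hB.sq (IsConj.refl d), hB.sq he.1, one_mul]
    · exact he.2.1 (by rw [eq_inv_of_mul_eq_one_right h, hB.inv_eq (IsConj.refl d)])
  refine S5439.result {w | IsConj d w} {w | IsConj (d * e) w} d (d * e) hB.ord hp2 rfl rfl ?_ _ ?_ ?_
  · intro h
    have hP : d * e ∈ {w | IsConj d w} := h.symm ▸ IsConj.refl (d * e)
    exact pair_notMem hB (comp_self d) hec he.2.1.symm he.2.2 hP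
  · intro w hw
    obtain ⟨k, hk⟩ : ∃ k : G, w = k * d * k⁻¹ ∨ w = k * (d * e) * k⁻¹ := by
      rcases hw with hw | hw <;> obtain ⟨k, hk⟩ := isConj_iff.1 (hw : IsConj _ w)
      exacts [⟨k, Or.inl hk.symm⟩, ⟨k, Or.inr hk.symm⟩]
    refine ⟨(k : G ⧸ stab d), ?_, ?_⟩
    · show w • (k : G ⧸ stab d) = _
      rw [coset_fix_iff]
      rcases hk with rfl | rfl
      · rw [show k⁻¹ * (k * d * k⁻¹) * k = d by group]; exact comp_le_stab (comp_self d)
      · rw [show k⁻¹ * (k * (d * e) * k⁻¹) * k = d * e by group]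
        exact mul_mem (comp_le_stab (comp_self d)) (comp_le_stab hec)
    · intro q hq
      obtain ⟨g, rfl⟩ := QuotientGroup.mk_surjective q
      rw [coset_fix_iff] at hq
      rw [QuotientGroup.eq]
      rcases hk with rfl | rfl
      · exact stab_of_conj hB (comp_self d) (by simpa [mul_assoc] using hq)
      · exact (stab_of_pair hB (comp_self d) hec he.2.1.symm he.2.2 (by simpa [mul_assoc] using hq)).1
  · intro a ha has b hb hbs hne hab
    have hac := comp_of_mem_stab hB ha has
    rcases hb with hb | hb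
    · exact pair_centralizer hB hac (comp_of_mem_stab hB hb hbs) hne hab
    · obtain ⟨k, rfl⟩ := isConj_iff.1 (hb : IsConj (d * e) b)
      obtain ⟨-, p, q, hp, hq, hpq, hc, hprod⟩ := stab_of_pair hB (comp_self d) hec he.2.1.symm he.2.2 hbs
      rw [← hprod] at hab ⊢
      by_cases hin : a = p ∨ a = q
      · exact pair_left hB hac hp hq hpq hc hin
      push Not at hin
      obtain ⟨c1, c2⟩ := comp_centralize_two hB hp hq hac hpq hc hab
      rw [← mul_assoc]
      exact triple_centralizer hB ⟨hac, hp, hq, ⟨hin.1, hin.2, hpq⟩, c1, c2, hc⟩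

end Cfsg.Agent.TransCent22
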